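import Mathlib
import Groth.Prelude.Def_FDesc

/-!
Geometric reducedness at a point of a fibre is stable under base change.
-/

set_option autoImplicit false
set_option linter.style.haveILetI false
universe u
open CategoryTheory AlgebraicGeometry Limits

noncomputable section

namespace Groth.Agent.SecDim

variable {X Y X' Y' : Scheme.{u}}

theorem isGeomReducedAt_baseChange {f : X ⟶ Y} {f' : X' ⟶ Y'} {g' : X' ⟶ X} {g : Y' ⟶ Y}
    (hc : IsPullback g' f' f g) (x' : X')
    (hx : FBase.IsGeomReducedAt (f.fiberToSpecResidueField (f (g' x'))) (f.asFiber (g' x'))) :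
    FBase.IsGeomReducedAt (f'.fiberToSpecResidueField (f' x')) (f'.asFiber x') := by
  intro K _ _ w hw
  have hy : g (f' x') = f (g' x') := by rw [← Scheme.Hom.comp_apply, ← hc.w, Scheme.Hom.comp_apply]
  let c : Y'.residueField (f' x') ⟶ CommRingCat.of K :=
    CommRingCat.ofHom (algebraMap (IsLocalRing.ResidueField (Y'.presheaf.stalk (f' x'))) K)
  let φ := (Y.residueFieldCongr hy.symm).hom ≫ g.residueFieldMap (f' x') ≫ c
  let ψ := Spec.map φ
  let pt := Spec.map c ≫ Y'.fromSpecResidueField (f' x') ≫ g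
  have hψ : ψ ≫ Y.fromSpecResidueField (f (g' x')) = pt := by
    simp only [ψ, φ, pt, Spec.map_comp, Category.assoc]
    rw [Scheme.residueFieldCongr_fromSpecResidueField, g.SpecMap_residueFieldMap_fromSpecResidueField]
  let fk := f.fiberToSpecResidueField (f (g' x'))
  let fk' := f'.fiberToSpecResidueField (f' x')
  have h1 : IsPullback (pullback.fst fk ψ ≫ f.fiberι (f (g' x'))) (pullback.snd fk ψ) f pt :=
    hψ ▸ (IsPullback.of_hasPullback fk ψ).paste_horiz
      (IsPullback.of_hasPullback f (Y.fromSpecResidueField (f (g' x'))))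
  have h2 : IsPullback ((pullback.fst fk' (Spec.map c) ≫ f'.fiberι (f' x')) ≫ g')
      (pullback.snd fk' (Spec.map c)) f pt := by
    have := ((IsPullback.of_hasPullback fk' (Spec.map c)).paste_horiz
      (IsPullback.of_hasPullback f' (Y'.fromSpecResidueField (f' x')))).paste_horiz hc
    simpa only [pt, Category.assoc, Scheme.Hom.fiberι] using this
  let e := h2.isoIsPullback _ _ h1
  have he : e.hom ≫ pullback.fst fk ψ ≫ f.fiberι (f (g' x')) =
      (pullback.fst fk' (Spec.map c) ≫ f'.fiberι (f' x')) ≫ g' := h2.isoIsPullback_hom_fst _ _ h1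
  let w₀ : ↥(pullback fk' (Spec.map c)) := w
  haveI : _root_.IsReduced ((pullback fk ψ).presheaf.stalk (e.hom w₀)) := by
    refine @hx K _ φ.hom.toAlgebra (e.hom w₀) ((f.fiberι (f (g' x'))).isEmbedding.injective ?_)
    rw [f.fiberι_asFiber]
    refine (congrArg (fun m => (m : _ ⟶ X) w₀) he).trans ?_
    show g' (f'.fiberι (f' x') (pullback.fst fk' (Spec.map c) w₀)) = g' x'
    rw [show pullback.fst fk' (Spec.map c) w₀ = f'.asFiber x' from hw, f'.fiberι_asFiber]
  exact isReduced_of_injective (asIso (e.hom.stalkMap w₀)).commRingCatIsoToRingEquiv.symm.toRingHom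
    (asIso (e.hom.stalkMap w₀)).commRingCatIsoToRingEquiv.symm.injective

end Groth.Agent.SecDim
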