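import Mathlib
import Groth.Agent.FibSemi.Equidim
import Groth.Prelude.Def_FDesc

/-!
Dimension of the connected component of a section in its fibre.
-/

set_option autoImplicit false
set_option linter.style.haveILetI false
universe u
open CategoryTheory AlgebraicGeometry Limits Topology TopologicalSpace

noncomputable section

namespace Groth.Agent.SecDim

variable {X Y : Scheme.{u}} (f : X ⟶ Y)

/-- Everything specializing from a fibre point through `a` lies in the component of `a`. -/
theorem mem_component_of_specializes {a c w : X} {y : Y} (hc : f c = y) (ha : f a = y) (hw : f w = y)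
    (hca : c ⤳ a) (hcw : c ⤳ w) : w ∈ connectedComponentIn (f ⁻¹' {y}) a := by
  have hirr : IsIrreducible (closure ({c} : Set X) ∩ f ⁻¹' {y}) := by
    refine ⟨⟨c, subset_closure rfl, hc⟩, fun u v hu hv ⟨p, hp, hpu⟩ ⟨q, hq, hqv⟩ => ?_⟩
    exact ⟨c, ⟨subset_closure rfl, hc⟩, (specializes_iff_mem_closure.mpr hp.1).mem_open hu hpu,
      (specializes_iff_mem_closure.mpr hq.1).mem_open hv hqv⟩
  exact hirr.isConnected.isPreconnected.subset_connectedComponentIn
    (⟨specializes_iff_mem_closure.mp hca, ha⟩) Set.inter_subset_right ⟨specializes_iff_mem_closure.mp hcw, hw⟩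

/-- Geometric irreducibility gives irreducibility. -/
theorem isIrreducible_of_geometrically (g : Y ⟶ X) (y : Y) (hgy : f (g y) = y)
    (h : ∀ (K : Type u) [Field K] [Algebra (IsLocalRing.ResidueField (Y.presheaf.stalk y)) K],
        IsIrreducible ((FBase.bcπ (f.fiberToSpecResidueField y) K ≫ f.fiberι y).base ⁻¹'
          connectedComponentIn (f.base ⁻¹' {y}) (g.base y))) :
    IsIrreducible (connectedComponentIn (f ⁻¹' {y}) (g y)) := by
  let k := IsLocalRing.ResidueField (Y.presheaf.stalk y)
  let m := FBase.bcπ (f.fiberToSpecResidueField y) k ≫ f.fiberι y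
  have hirr : IsIrreducible (m ⁻¹' connectedComponentIn (f ⁻¹' {y}) (g y)) := h k
  have hsub : connectedComponentIn (f ⁻¹' {y}) (g y) ⊆ Set.range m := by
    intro w hw
    have hwy : f w = y := (connectedComponentIn_subset (f ⁻¹' {y}) _ hw :)
    obtain ⟨v, hv⟩ : w ∈ Set.range (f.fiberι y) := by rw [f.range_fiberι]; exact hwy
    have hiso : IsIso (Spec.map (CommRingCat.ofHom (algebraMap k k))) := by
      rw [Algebra.algebraMap_self]
      exact inferInstanceAs (IsIso (Spec.map (𝟙 (CommRingCat.of k))))
    haveI : IsIso (FBase.bcπ (f.fiberToSpecResidueField y) k) :=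
      MorphismProperty.pullback_fst (P := MorphismProperty.isomorphisms Scheme) _ _ hiso
    obtain ⟨u, hu⟩ := (FBase.bcπ (f.fiberToSpecResidueField y) k).surjective v
    exact ⟨u, by rw [Scheme.Hom.comp_apply, hu, hv]⟩
  rw [← Set.image_preimage_eq_of_subset hsub]
  exact hirr.image _ m.continuous.continuousOn

/-- An irreducible component of the section has a generic point, the only maximal point above the section. -/
theorem exists_generic [LocallyOfFiniteType f] {a : X} {y : Y} (ha : f a = y)
    (hC : IsIrreducible (connectedComponentIn (f ⁻¹' {y}) a)) :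
    ∃ c, f c = y ∧ c ⤳ a ∧ (∀ z, f z = y → z ⤳ c → z = c) ∧
      connectedComponentIn (f ⁻¹' {y}) a = closure {c} ∩ f ⁻¹' {y} ∧
      FlatMor.fibreDimAt f a = Order.krullDim {z : X | f z = f c ∧ c ⤳ z} := by
  obtain ⟨c, hca, hfc, hcm, n, m, e, -, -, hfd, hc, -⟩ := FibSemi.exists_max_fibre f a
  have hfy : f c = y := hfc.trans ha
  refine ⟨c, hfy, hca, fun z hz => hcm z (hz.trans ha.symm), Set.Subset.antisymm (fun w hw => ?_) ?_, hfd.trans hc.symm⟩
  · have hwy : f w = y := (connectedComponentIn_subset (f ⁻¹' {y}) _ hw :)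
    refine ⟨?_, hwy⟩
    -- the generic point of the component generizes `c`
    haveI : QuasiSober (f ⁻¹' {y}) := (f.fiberHomeo y).symm.isClosedEmbedding.quasiSober
    let a' : f ⁻¹' {y} := ⟨a, ha⟩
    have himg : connectedComponentIn (f ⁻¹' {y}) a = Subtype.val '' connectedComponent a' :=
      connectedComponentIn_eq_image (F := f ⁻¹' {y}) ha
    have hC' : IsIrreducible (connectedComponent a') := by
      refine ⟨⟨a', mem_connectedComponent⟩, fun u v hu hv ⟨p, hp, hpu⟩ ⟨q, hq, hqv⟩ => ?_⟩
      obtain ⟨U, hU, rfl⟩ := isOpen_induced_iff.mp hu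
      obtain ⟨V, hV, rfl⟩ := isOpen_induced_iff.mp hv
      obtain ⟨r, hr, hrU, hrV⟩ := hC.2 U V hU hV ⟨p.1, himg ▸ ⟨p, hp, rfl⟩, hpu⟩ ⟨q.1, himg ▸ ⟨q, hq, rfl⟩, hqv⟩
      rw [himg] at hr
      obtain ⟨r', hr', rfl⟩ := hr
      exact ⟨r', hr', hrU, hrV⟩
    obtain ⟨η, hη⟩ := QuasiSober.sober hC' isClosed_connectedComponent
    have hcC : (⟨c, hfy⟩ : f ⁻¹' {y}) ∈ connectedComponent a' := by
      have := mem_component_of_specializes f hfy ha hfy hca specializes_rfl
      rw [himg] at this
      obtain ⟨v, hv, hvc⟩ := this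
      rwa [show (⟨c, hfy⟩ : f ⁻¹' {y}) = v from Subtype.ext hvc.symm]
    have h1 : η.1 = c := hcm η.1 (η.2.trans ha.symm) ((hη.specializes hcC).map continuous_subtype_val)
    rw [himg] at hw
    obtain ⟨v, hv, rfl⟩ := hw
    rw [← specializes_iff_mem_closure, ← h1]
    exact (hη.specializes hv).map continuous_subtype_val
  · exact fun w hw => mem_component_of_specializes f hfy ha hw.2 hca (specializes_iff_mem_closure.mpr hw.1)

/-- The dimension of an irreducible component of the section is the fibre dimension at the section. -/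
theorem topDim_component_eq [LocallyOfFiniteType f] {a : X} {y : Y} (ha : f a = y)
    (hC : IsIrreducible (connectedComponentIn (f ⁻¹' {y}) a)) :
    topologicalKrullDim ↥(connectedComponentIn (f ⁻¹' {y}) a) = FlatMor.fibreDimAt f a := by
  obtain ⟨c, hfc, -, -, hCeq, hfd⟩ := exists_generic f ha hC
  rw [hCeq, hfd, ← hfc, FibSemi.topDim_closure_inter_fibre_eq]

end Groth.Agent.SecDim
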