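import Mathlib
import Groth.Agent.SecDim.Basic
import Groth.Agent.SecComp.Basic
import Groth.Agent.AlgSpD.FibreDimBC

/-!
The component of a section after base change.
-/

set_option autoImplicit false
set_option linter.style.haveILetI false
universe u
open CategoryTheory AlgebraicGeometry Limits Topology TopologicalSpace

noncomputable section

namespace Groth.Agent.SecDim

variable {X Y X' Y' : Scheme.{u}} (f : X ⟶ Y) (s : Y ⟶ X) {f' : X' ⟶ Y'} {g' : X' ⟶ X} {g : Y' ⟶ Y}
  {s' : Y' ⟶ X'}

/-- Geometrically irreducible components of a section stay irreducible after base change. -/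
theorem isIrreducible_baseChange (hs : s ≫ f = 𝟙 Y) (hc : IsPullback g' f' f g) (hs' : s' ≫ f' = 𝟙 Y')
    (hs'g : s' ≫ g' = g ≫ s)
    (hirr : ∀ (y : Y) (K : Type u) [Field K] [Algebra (IsLocalRing.ResidueField (Y.presheaf.stalk y)) K],
        IsIrreducible ((FBase.bcπ (f.fiberToSpecResidueField y) K ≫ f.fiberι y).base ⁻¹'
          connectedComponentIn (f.base ⁻¹' {y}) (s.base y))) (y' : Y') :
    IsIrreducible (connectedComponentIn (f' ⁻¹' {y'}) (s' y')) := by
  rw [SecComp.mem_component_iff f s hs f' g' g hc s' hs' hs'g y']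
  letI : Algebra (IsLocalRing.ResidueField (Y.presheaf.stalk (g y'))) (Y'.residueField y') :=
    (g.residueFieldMap y').hom.toAlgebra
  let fy := f.fiberToSpecResidueField (g y')
  let i := Spec.map (g.residueFieldMap y')
  have h1 : IsPullback (pullback.fst fy i ≫ f.fiberι (g y')) (pullback.snd fy i) f
      (Y'.fromSpecResidueField y' ≫ g) := by
    rw [← g.SpecMap_residueFieldMap_fromSpecResidueField]
    exact (IsPullback.of_hasPullback fy i).paste_horiz
      (IsPullback.of_hasPullback f (Y.fromSpecResidueField (g y')))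
  let a := hc.lift (pullback.fst fy i ≫ f.fiberι (g y'))
    (pullback.snd fy i ≫ Y'.fromSpecResidueField y') (h1.w.trans (Category.assoc _ _ _).symm)
  have ha : IsPullback a (pullback.snd fy i) f' (Y'.fromSpecResidueField y') :=
    IsPullback.of_right (by rw [hc.lift_fst]; exact h1) (hc.lift_snd _ _ _) hc
  have hga : ∀ p, g' (a p) = (pullback.fst fy i ≫ f.fiberι (g y')) p := fun p => by
    rw [← Scheme.Hom.comp_apply, hc.lift_fst]
  have key : g' ⁻¹' connectedComponentIn (f ⁻¹' {g y'}) (s (g y')) ∩ f' ⁻¹' {y'} =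
      a '' ((pullback.fst fy i ≫ f.fiberι (g y')) ⁻¹' connectedComponentIn (f ⁻¹' {g y'}) (s (g y'))) := by
    ext z
    constructor
    · rintro ⟨hz, hzy⟩
      obtain ⟨p, hp, -⟩ := Scheme.exists_preimage_of_isPullback ha z (IsLocalRing.closedPoint _)
        (by rw [show f' z = y' from hzy, Scheme.fromSpecResidueField_apply])
      refine ⟨p, ?_, hp⟩
      rw [Set.mem_preimage, ← hga, hp]
      exact hz
    · rintro ⟨p, hp, rfl⟩
      refine ⟨?_, ?_⟩
      · rw [Set.mem_preimage, hga]
        exact hp
      · show f' (a p) = y'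
        rw [← Scheme.Hom.comp_apply, ha.w, Scheme.Hom.comp_apply, Scheme.fromSpecResidueField_apply]
  rw [key]
  exact IsIrreducible.image (hirr (g y') (Y'.residueField y')) _ a.continuous.continuousOn

/-- The dimension of the component of a section is invariant under base change. -/
theorem topDim_baseChange [LocallyOfFiniteType f] (hs : s ≫ f = 𝟙 Y) (hc : IsPullback g' f' f g)
    (hs' : s' ≫ f' = 𝟙 Y') (hs'g : s' ≫ g' = g ≫ s)
    (hirr : ∀ (y : Y) (K : Type u) [Field K] [Algebra (IsLocalRing.ResidueField (Y.presheaf.stalk y)) K],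
        IsIrreducible ((FBase.bcπ (f.fiberToSpecResidueField y) K ≫ f.fiberι y).base ⁻¹'
          connectedComponentIn (f.base ⁻¹' {y}) (s.base y))) (y' : Y') :
    topologicalKrullDim ↥(connectedComponentIn (f' ⁻¹' {y'}) (s' y')) =
      topologicalKrullDim ↥(connectedComponentIn (f ⁻¹' {g y'}) (s (g y'))) := by
  haveI : LocallyOfFiniteType f' := MorphismProperty.of_isPullback hc inferInstance
  have hsy : f (s (g y')) = g y' := by rw [← Scheme.Hom.comp_apply, hs]; rfl
  have hs'y : f' (s' y') = y' := by rw [← Scheme.Hom.comp_apply, hs']; rfl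
  rw [topDim_component_eq f' hs'y (isIrreducible_baseChange f s hs hc hs' hs'g hirr y'),
    topDim_component_eq f hsy (isIrreducible_of_geometrically f s _ hsy (hirr _)),
    AlgSpD.fibreDimAt_of_isPullback f hc (s' y'), ← Scheme.Hom.comp_apply, hs'g,
    Scheme.Hom.comp_apply]

end Groth.Agent.SecDim
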