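import Mathlib
import Groth.Agent.SecDim.Basic
import Groth.Agent.SecDim.BaseChange
import Groth.Agent.GUOpen.Fibre
import Groth.Agent.LimTop.Closure
import Groth.Agent.LimTop.Cons

/-!
EGA IV 15.6.3 / 15.6.6 without Noetherian hypotheses: the section component along generizations.
-/

set_option autoImplicit false
set_option linter.style.haveILetI false
universe u
open CategoryTheory AlgebraicGeometry Limits Topology TopologicalSpace

noncomputable section

namespace Groth.Agent.SecDim

variable {X Y : Scheme.{u}} (f : X ⟶ Y) (g : Y ⟶ X)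

/-- If the fibre dimension along the section does not drop, an irreducible section component lies in
the closure of a maximal point of the generic fibre above the section. -/
theorem subset_closure_of_fibreDimAt [LocallyOfFiniteType f] (hg : g ≫ f = 𝟙 Y) {y y' : Y} (hy : y' ⤳ y)
    (hirr : IsIrreducible (connectedComponentIn (f ⁻¹' {y}) (g y)))
    (hdim : FlatMor.fibreDimAt f (g y) ≤ FlatMor.fibreDimAt f (g y')) :
    ∃ z, f z = y' ∧ z ⤳ g y' ∧ (∀ w, f w = y' → w ⤳ z → w = z) ∧
      connectedComponentIn (f ⁻¹' {y}) (g y) ⊆ closure {z} := by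
  classical
  have hgy : ∀ y, f (g y) = y := fun y => by rw [← Scheme.Hom.comp_apply, hg]; rfl
  obtain ⟨ζ, hζg', hζy, hζm, n', m', e', -, -, hfd', hc', -⟩ := FibSemi.exists_max_fibre f (g y')
  rw [hgy] at hζy hζm
  refine ⟨ζ, hζy, hζg', hζm, ?_⟩
  have hζg : ζ ⤳ g y := hζg'.trans (hy.map g.continuous)
  obtain ⟨c, hfc, hcg, hcm, hCeq, hfd⟩ := exists_generic f (hgy y) hirr
  suffices h : ζ ⤳ c by
    intro w hw
    have h1 : c ⤳ w := specializes_iff_mem_closure.mpr (hCeq.subset hw).1
    exact (h.trans h1).mem_closure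
  have hd : Order.krullDim {z : X | f z = f c ∧ c ⤳ z} ≤ topologicalKrullDim ↥(closure {ζ} ∩ f ⁻¹' {f ζ}) := by
    rw [FibSemi.topDim_closure_inter_fibre_eq]
    calc Order.krullDim {z : X | f z = f c ∧ c ⤳ z} = FlatMor.fibreDimAt f (g y) := hfd.symm
      _ ≤ FlatMor.fibreDimAt f (g y') := hdim
      _ = _ := hfd'.trans hc'.symm
  obtain ⟨V, hgV, hV⟩ := GUOpen.exists_nhd_max f (g y) y
  have h1 := hd.trans (FibSemi.topDim_closure_inter_fibre_le f hζg V hgV)
  rw [hgy y, GUOpen.topDim_piece f _ isClosed_closure V y] at h1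
  obtain ⟨n₁, e, -, -, hfde⟩ := FibSemi.fibreDimAt_eq_add f (g y)
  have hce : Order.krullDim {z : X | f z = f c ∧ c ⤳ z} = ((n₁ + e : ℕ) : WithBot ℕ∞) := hfd.symm.trans hfde
  rw [hce] at h1
  obtain ⟨l, hl⟩ := Order.le_krullDim_iff.mp h1
  have hcw : c ⤳ (l.last).1 := by
    obtain ⟨c', hc'w, hc'g, hfc', hc'm⟩ := hV _ (l.last).2.2.2 (l.last).2.1
    have h2 : c ⤳ c' := specializes_iff_mem_closure.mpr
      (hCeq.subset (SecDim.mem_component_of_specializes f hfc' (hgy y) hfc' hc'g specializes_rfl)).1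
    exact h2.trans hc'w
  by_cases hlc : (l.last).1 = c
  · rw [← hlc]
    exact specializes_iff_mem_closure.mpr (l.last).2.2.1
  exfalso
  let top : {z : X | f z = f c ∧ c ⤳ z} := ⟨c, rfl, specializes_rfl⟩
  let l₀ : LTSeries {z : X | f z = f c ∧ c ⤳ z} := LTSeries.mk l.length
    (fun i => ⟨(l i).1, (l i).2.1.trans hfc.symm,
      hcw.trans (show (l.last).1 ⤳ (l i).1 from l.monotone (Fin.le_last i))⟩) fun i j hij => l.strictMono hij
  let l₁ : LTSeries {z : X | f z = f c ∧ c ⤳ z} := l₀.snoc top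
    ⟨hcw, fun h' => hlc ((show (l.last).1 ⤳ c from h').antisymm hcw).eq⟩
  have h3 := (Order.le_krullDim_iff.mpr ⟨l₁, rfl⟩).trans_eq hce
  have h4 : l₁.length ≤ n₁ + e := ENat.natCast_le_natCast.mp (WithBot.coe_le_coe.mp h3)
  have h5 : l₁.length = (n₁ + e) + 1 := by rw [← hl]; rfl
  omega

/-- Irreducibility of the base-changed component over one point with geometrically irreducible component. -/
theorem isIrreducible_baseChange_at {X' Y' : Scheme.{u}} {f' : X' ⟶ Y'} {g' : X' ⟶ X} {b : Y' ⟶ Y} {s' : Y' ⟶ X'}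
    (hg : g ≫ f = 𝟙 Y) (hc : IsPullback g' f' f b) (hs' : s' ≫ f' = 𝟙 Y') (hs'g : s' ≫ g' = b ≫ g) {y : Y}
    (hirr : ∀ (K : Type u) [Field K] [Algebra (IsLocalRing.ResidueField (Y.presheaf.stalk y)) K],
        IsIrreducible ((FBase.bcπ (f.fiberToSpecResidueField y) K ≫ f.fiberι y).base ⁻¹'
          connectedComponentIn (f.base ⁻¹' {y}) (g.base y))) {y' : Y'} (hy' : b y' = y) :
    IsIrreducible (connectedComponentIn (f' ⁻¹' {y'}) (s' y')) := by
  subst hy'
  rw [SecComp.mem_component_iff f g hg f' g' b hc s' hs' hs'g y']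
  letI : Algebra (IsLocalRing.ResidueField (Y.presheaf.stalk (b y'))) (Y'.residueField y') :=
    (b.residueFieldMap y').hom.toAlgebra
  let fy := f.fiberToSpecResidueField (b y')
  let i := Spec.map (b.residueFieldMap y')
  have h1 : IsPullback (pullback.fst fy i ≫ f.fiberι (b y')) (pullback.snd fy i) f
      (Y'.fromSpecResidueField y' ≫ b) := by
    rw [← b.SpecMap_residueFieldMap_fromSpecResidueField]
    exact (IsPullback.of_hasPullback fy i).paste_horiz
      (IsPullback.of_hasPullback f (Y.fromSpecResidueField (b y')))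
  let a := hc.lift (pullback.fst fy i ≫ f.fiberι (b y'))
    (pullback.snd fy i ≫ Y'.fromSpecResidueField y') (h1.w.trans (Category.assoc _ _ _).symm)
  have ha : IsPullback a (pullback.snd fy i) f' (Y'.fromSpecResidueField y') :=
    IsPullback.of_right (by rw [hc.lift_fst]; exact h1) (hc.lift_snd _ _ _) hc
  have hga : ∀ p, g' (a p) = (pullback.fst fy i ≫ f.fiberι (b y')) p := fun p => by
    rw [← Scheme.Hom.comp_apply, hc.lift_fst]
  have key : g' ⁻¹' connectedComponentIn (f ⁻¹' {b y'}) (g (b y')) ∩ f' ⁻¹' {y'} =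
      a '' ((pullback.fst fy i ≫ f.fiberι (b y')) ⁻¹' connectedComponentIn (f ⁻¹' {b y'}) (g (b y'))) := by
    ext z
    constructor
    · rintro ⟨hz, hzy⟩
      obtain ⟨p, hp, -⟩ := Scheme.exists_preimage_of_isPullback ha z (IsLocalRing.closedPoint _)
        (by rw [show f' z = y' from hzy, Scheme.fromSpecResidueField_apply])
      refine ⟨p, ?_, hp⟩
      rw [Set.mem_preimage, ← hga, hp]
      exact hz
    · rintro ⟨p, hp, rfl⟩
      refine ⟨?_, ?_⟩
      · rw [Set.mem_preimage, hga]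
        exact hp
      · show f' (a p) = y'
        rw [← Scheme.Hom.comp_apply, ha.w, Scheme.Hom.comp_apply, Scheme.fromSpecResidueField_apply]
  rw [key]
  exact IsIrreducible.image (hirr (Y'.residueField y')) _ a.continuous.continuousOn

/-- EGA IV 15.6.6 (ii) without Noetherian hypotheses. -/
theorem isUnivOpenAt_of_fibreDimAt_const [LocallyOfFinitePresentation f] (hg : g ≫ f = 𝟙 Y) {y : Y}
    (hirr : ∀ (K : Type u) [Field K] [Algebra (IsLocalRing.ResidueField (Y.presheaf.stalk y)) K],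
        IsIrreducible ((FBase.bcπ (f.fiberToSpecResidueField y) K ≫ f.fiberι y).base ⁻¹'
          connectedComponentIn (f.base ⁻¹' {y}) (g.base y)))
    (hdim : ∀ z, z ⤳ y → FlatMor.fibreDimAt f (g y) ≤ FlatMor.fibreDimAt f (g z)) :
    ∀ x ∈ connectedComponentIn (f ⁻¹' {y}) (g y), EGA43.IsUnivOpenAt f x := by
  intro x hx Y' b x' hx' U₀ hU₀
  let p := pullback.fst f b
  let q := pullback.snd f b
  let s' : Y' ⟶ pullback f b :=
    pullback.lift (b ≫ g) (𝟙 _) (by rw [Category.assoc, hg, Category.comp_id, Category.id_comp])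
  have hs' : s' ≫ q = 𝟙 _ := pullback.lift_snd _ _ _
  have hs'g : s' ≫ p = b ≫ g := pullback.lift_fst _ _ _
  have hpb : IsPullback p q f b := IsPullback.of_hasPullback f b
  haveI : LocallyOfFinitePresentation q := MorphismProperty.of_isPullback hpb inferInstance
  have hfx : f x = y := (connectedComponentIn_subset (f ⁻¹' {y}) _ hx :)
  have hby : b (q x') = y := by
    rw [← Scheme.Hom.comp_apply, ← hpb.w, Scheme.Hom.comp_apply, show p x' = x from hx', hfx]
  obtain ⟨U₁, hU₁s, hU₁o, hxU₁⟩ := mem_nhds_iff.mp hU₀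
  obtain ⟨V, hV, hyV, -⟩ := exists_isAffineOpen_mem_and_subset (x := q x') (U := ⊤) trivial
  obtain ⟨U, hU, hxU, hUV⟩ := exists_isAffineOpen_mem_and_subset (x := x')
    (U := (⟨U₁, hU₁o⟩ : Opens _) ⊓ q ⁻¹ᵁ V) ⟨hxU₁, hyV⟩
  haveI : IsAffine (U : Scheme.{u}) := hU
  haveI : IsAffine (V : Scheme.{u}) := hV
  let qU := q.resLE V U (hUV.trans inf_le_right)
  haveI : IsAffineHom qU := isAffineHom_of_isAffine _
  haveI : LocallyOfFinitePresentation qU := inferInstanceAs (LocallyOfFinitePresentation (q.resLE V U _))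
  have hqU : ∀ w, V.ι (qU w) = q (U.ι w) := fun w => by
    rw [← Scheme.Hom.comp_apply, ← Scheme.Hom.comp_apply, Scheme.Hom.resLE_comp_ι]
  have hlc : IsLocallyConstructible (Set.range qU) := by
    rw [← Set.image_univ]
    exact qU.isLocallyConstructible_image (by exact IsConstructible.univ.isLocallyConstructible)
  let y₁ : ↥(V : Scheme.{u}) := ⟨q x', hyV⟩
  have hmem : Set.range qU ∈ nhds y₁ := by
    by_contra hne
    have hcl : y₁ ∈ closure (Set.range qU)ᶜ := by
      rw [mem_closure_iff_nhds]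
      intro N hN
      by_contra hN'
      rw [Set.not_nonempty_iff_eq_empty] at hN'
      exact hne (Filter.mem_of_superset hN fun w hw => by
        by_contra hw'
        exact (hN'.le ⟨hw, hw'⟩ : w ∈ (∅ : Set _)))
    obtain ⟨t, ht, hty⟩ := LimTop.exists_specializes_of_mem_closure
      (LimTop.isProConstructible_of_isLocallyConstructible (LimTop.isLocallyConstructible_compl hlc)) hcl
    apply ht
    have hty' : V.ι t ⤳ q x' := hty.map V.ι.continuous
    have hd : FlatMor.fibreDimAt q (s' (q x')) ≤ FlatMor.fibreDimAt q (s' (V.ι t)) := by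
      rw [AlgSpD.fibreDimAt_of_isPullback f hpb, AlgSpD.fibreDimAt_of_isPullback f hpb,
        ← Scheme.Hom.comp_apply, hs'g, Scheme.Hom.comp_apply, hby, ← Scheme.Hom.comp_apply s' p, hs'g,
        Scheme.Hom.comp_apply]
      exact hdim _ (hby ▸ hty'.map b.continuous)
    obtain ⟨z, hqz, -, -, hsub⟩ := subset_closure_of_fibreDimAt q s' hs' hty'
      (isIrreducible_baseChange_at f g hg hpb hs' hs'g hirr hby) hd
    have hx'C : x' ∈ connectedComponentIn (q ⁻¹' {q x'}) (s' (q x')) := by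
      rw [SecComp.mem_component_iff f g hg q p b hpb s' hs' hs'g (q x'), hby]
      exact ⟨by rw [Set.mem_preimage, show p x' = x from hx']; exact hx, rfl⟩
    have hzU : z ∈ U := (specializes_iff_mem_closure.mpr (hsub hx'C)).mem_open U.2 hxU
    exact ⟨⟨z, hzU⟩, V.ι.isOpenEmbedding.injective ((hqU _).trans hqz)⟩
  refine Filter.mem_of_superset (V.ι.isOpenMap.image_mem_nhds hmem) ?_
  rintro _ ⟨_, ⟨w, rfl⟩, rfl⟩
  exact ⟨U.ι w, hU₁s (hUV (U.range_ι.le ⟨w, rfl⟩)).1, (hqU w).symm⟩

end Groth.Agent.SecDim
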