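import Mathlib
import Groth.Agent.SecDim.General
import Groth.Agent.GRLocus.Open
import Groth.Prelude.Def_MoreMor

/-!
Over a valuation ring: a point of the special fibre where the fibre is reduced and irreducible, in the
closure of the generic fibre through the generic point of its component, has a domain as local ring.
-/

set_option autoImplicit false
set_option linter.style.haveILetI false
universe u
open CategoryTheory AlgebraicGeometry IsLocalRing Topology
open Groth.Agent.GRLocus (stalkMap_bijective_of_flat)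

noncomputable section

namespace Groth.Agent.SecDim

/-- The algebra: a torsion-free prime `Q` lying in the special fibre up to denominators vanishes locally. -/
theorem map_eq_bot_of_le_special {R A : Type u} [CommRing R] [IsDomain R] [ValuationRing R] [CommRing A]
    [Algebra R A] [Algebra.FiniteType R A] (p Q : Ideal A) [p.IsPrime] [Q.IsPrime]
    (hQ : Q.comap (algebraMap R A) = ⊥) (hp : (maximalIdeal R).map (algebraMap R A) ≤ p)
    (h : ∀ b ∈ Q, ∃ t ∉ p, t * b ∈ (maximalIdeal R).map (algebraMap R A)) :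
    Q.map (algebraMap A (Localization.AtPrime p)) = ⊥ := by
  classical
  have hr : ∀ r : R, algebraMap R A r ∈ Q → r = 0 := fun r hr => by
    have h1 : r ∈ Q.comap (algebraMap R A) := hr
    rwa [hQ, Ideal.mem_bot] at h1
  have hfp : Module.FinitePresentation A (A ⧸ Q) :=
    FlatMisc.ValuationEFT.finitePresentation (A := R) (B := A) (A ⧸ Q) (by
      intro r m hm
      obtain ⟨b, rfl⟩ := Ideal.Quotient.mk_surjective m
      by_cases hr0 : r = 0
      · exact Or.inl hr0
      · refine Or.inr (Ideal.Quotient.eq_zero_iff_mem.mpr ?_)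
        have h1 : r • b ∈ Q :=
          Ideal.Quotient.eq_zero_iff_mem.mp ((map_smul (Ideal.Quotient.mkₐ R _) r b).trans hm)
        rw [Algebra.smul_def] at h1
        exact (Ideal.IsPrime.mem_or_mem ‹Q.IsPrime› h1).resolve_left fun h2 => hr0 (hr r h2))
  have hfg : Q.FG := by
    have := Module.FinitePresentation.fg_ker Q.mkQ (Submodule.mkQ_surjective _)
    rwa [Submodule.ker_mkQ] at this
  set I := (maximalIdeal R).map (algebraMap R A) with hI
  let L := Localization.AtPrime p
  have hI' : ∀ y ∈ I, ∃ r ∈ maximalIdeal R, ∃ c : A, algebraMap R A r * c = y := by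
    intro y hy
    induction hy using Submodule.span_induction with
    | mem x hx =>
      obtain ⟨r, hr, rfl⟩ := hx
      exact ⟨r, hr, 1, mul_one _⟩
    | zero => exact ⟨0, zero_mem _, 0, mul_zero _⟩
    | add x y _ _ ihx ihy =>
      obtain ⟨r, hr, c, rfl⟩ := ihx
      obtain ⟨s, hs, d, rfl⟩ := ihy
      rcases ValuationRing.dvd_total r s with ⟨e, rfl⟩ | ⟨e, rfl⟩
      · exact ⟨r, hr, c + algebraMap R A e * d, by rw [map_mul]; ring⟩
      · exact ⟨s, hs, algebraMap R A e * c + d, by rw [map_mul]; ring⟩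
    | smul z x _ ih =>
      obtain ⟨r, hr, c, rfl⟩ := ih
      exact ⟨r, hr, z * c, by rw [smul_eq_mul]; ring⟩
  have hle : Q.map (algebraMap A L) ≤ I.map (algebraMap A L) • Q.map (algebraMap A L) := by
    rw [smul_eq_mul, ← Ideal.map_mul, Ideal.map_le_iff_le_comap]
    intro b hb
    obtain ⟨t, ht, htb⟩ := h b hb
    obtain ⟨r, hrm, c, hc⟩ := hI' _ htb
    rw [Ideal.mem_comap, IsLocalization.algebraMap_mem_map_algebraMap_iff p.primeCompl L]
    refine ⟨t, ht, ?_⟩
    rw [← hc]
    by_cases hr0 : r = 0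
    · simp [hr0]
    · refine Ideal.mul_mem_mul (Ideal.mem_map_of_mem _ hrm) ?_
      have h1 : algebraMap R A r * c ∈ Q := hc.symm ▸ Q.mul_mem_left t hb
      exact (Ideal.IsPrime.mem_or_mem ‹Q.IsPrime› h1).resolve_left fun h2 => hr0 (hr r h2)
  refine Submodule.eq_bot_of_le_smul_of_le_jacobson_bot (I.map (algebraMap A L)) _ (Ideal.FG.map hfg _) hle ?_
  rw [IsLocalRing.jacobson_eq_maximalIdeal ⊥ bot_ne_top, ← IsLocalization.AtPrime.map_eq_maximalIdeal p L]
  exact Ideal.map_mono hp

/-- A point of the special fibre with reduced irreducible fibre, under a generic point through the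
fibre component: the local ring is a domain. -/
theorem isDomain_stalk_valuation {R : Type u} [CommRing R] [IsDomain R] [ValuationRing R]
    {P : Scheme.{u}} (q : P ⟶ Spec (CommRingCat.of R)) [LocallyOfFiniteType q] {x ξ z : P}
    (hx : q x = closedPoint R) (hred : _root_.IsReduced ((q.fiber (q x)).presheaf.stalk (q.asFiber x)))
    (hξ : q ξ = q x) (hξx : ξ ⤳ x) (huniq : ∀ w, q w = q x → w ⤳ x → ξ ⤳ w) (hzξ : z ⤳ ξ)
    (hz : q z = genericPoint (Spec (CommRingCat.of R))) :
    IsDomain (P.presheaf.stalk x) ∧ ∀ w, w ⤳ x → z ⤳ w := by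
  obtain ⟨W, hW, hxW, -⟩ := exists_isAffineOpen_mem_and_subset (x := x) (U := ⊤) trivial
  have hξW : ξ ∈ W := hξx.mem_open W.2 hxW
  have hzW : z ∈ W := hzξ.mem_open W.2 hξW
  let T := Spec (CommRingCat.of R)
  let V : T.Opens := ⊤
  have hV : IsAffineOpen V := isAffineOpen_top T
  have e : W ≤ q ⁻¹ᵁ V := fun _ _ => trivial
  -- the ring of functions of the base
  let ι : R →+* Γ(T, V) := (Scheme.ΓSpecIso (CommRingCat.of R)).inv.hom
  have hι : Function.Bijective ι := (Scheme.ΓSpecIso (CommRingCat.of R)).symm.commRingCatIsoToRingEquiv.bijective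
  let φ : R →+* Γ(P, W) := (q.appLE V W e).hom.comp ι
  letI := φ.toAlgebra
  have hft : φ.FiniteType := (q.finiteType_appLE hV hW e).comp (RingHom.FiniteType.of_surjective ι hι.2)
  haveI : Algebra.FiniteType R Γ(P, W) := hft
  have hfs : hV.fromSpec = Spec.map (Scheme.ΓSpecIso (CommRingCat.of R)).inv :=
    (IsAffineOpen.fromSpec_top (X := Spec (CommRingCat.of R))).trans (Scheme.isoSpec_Spec_inv _)
  -- images of points of the chart
  have hqP : ∀ Q : PrimeSpectrum Γ(P, W), (q (hW.fromSpec Q) : PrimeSpectrum R).asIdeal = Q.asIdeal.comap φ := by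
    intro Q
    have h1 : q (hW.fromSpec Q) = hV.fromSpec (PrimeSpectrum.comap (q.appLE V W e).hom Q) :=
      (congrArg (fun m : Spec Γ(P, W) ⟶ T => m Q) (IsAffineOpen.SpecMap_appLE_fromSpec q hV hW e)).symm
    rw [h1, hfs]
    rfl
  let p := (hW.primeIdealOf ⟨x, hxW⟩).asIdeal
  let p₁ := (hW.primeIdealOf ⟨ξ, hξW⟩).asIdeal
  let Qz := (hW.primeIdealOf ⟨z, hzW⟩).asIdeal
  have hle : ∀ {a b : P} (ha : a ∈ W) (hb : b ∈ W), a ⤳ b →
      (hW.primeIdealOf ⟨a, ha⟩).asIdeal ≤ (hW.primeIdealOf ⟨b, hb⟩).asIdeal := by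
    intro a b ha hb hab
    refine (PrimeSpectrum.le_iff_specializes (hW.primeIdealOf ⟨a, ha⟩) (hW.primeIdealOf ⟨b, hb⟩)).mpr ?_
    refine hW.fromSpec.isOpenEmbedding.isEmbedding.specializes_iff.mp ?_
    show hW.fromSpec (hW.primeIdealOf ⟨a, ha⟩) ⤳ hW.fromSpec (hW.primeIdealOf ⟨b, hb⟩)
    rw [hW.fromSpec_primeIdealOf, hW.fromSpec_primeIdealOf]
    exact hab
  have hQz : Qz.comap φ = ⊥ := by
    rw [← hqP (hW.primeIdealOf ⟨z, hzW⟩), hW.fromSpec_primeIdealOf, hz, genericPoint_eq_bot_of_affine]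
    rfl
  have hmaxp : (maximalIdeal R).map (algebraMap R Γ(P, W)) ≤ p := by
    refine Ideal.map_le_iff_le_comap.mpr (le_of_eq ?_)
    show maximalIdeal R = p.comap φ
    rw [← hqP (hW.primeIdealOf ⟨x, hxW⟩), hW.fromSpec_primeIdealOf, hx]
    rfl
  -- the stalk of the base at the closed point
  letI : Algebra Γ(T, V) (T.presheaf.stalk (q x)) := (T.presheaf.germ V (q x) trivial).hom.toAlgebra
  haveI : IsLocalization.AtPrime (T.presheaf.stalk (q x)) (hV.primeIdealOf ⟨q x, trivial⟩).asIdeal :=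
    hV.isLocalization_stalk ⟨q x, trivial⟩
  have hmax : (hV.primeIdealOf ⟨q x, trivial⟩).asIdeal = (maximalIdeal R).map ι := by
    have h1 : hV.fromSpec (hV.primeIdealOf ⟨q x, trivial⟩) = closedPoint R :=
      (hV.fromSpec_primeIdealOf _).trans hx
    have h2 : (hV.primeIdealOf ⟨q x, trivial⟩).asIdeal.comap ι = maximalIdeal R := by
      have h3 := congrArg PrimeSpectrum.asIdeal h1
      have hfs : hV.fromSpec = Spec.map (Scheme.ΓSpecIso (CommRingCat.of R)).inv :=
        (IsAffineOpen.fromSpec_top (X := Spec (CommRingCat.of R))).trans (Scheme.isoSpec_Spec_inv _)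
      rw [hfs] at h3
      exact h3
    rw [← h2, Ideal.map_comap_of_surjective ι hι.2]
  letI : Algebra Γ(P, W) (P.presheaf.stalk x) := (P.presheaf.germ W x hxW).hom.toAlgebra
  haveI : IsLocalization.AtPrime (P.presheaf.stalk x) p := hW.isLocalization_stalk ⟨x, hxW⟩
  obtain ⟨ψ, hψs, hψk⟩ := FlatMor.FibreStalk.exists_fibre_stalk q x
  have hker : RingHom.ker ψ = ((maximalIdeal R).map φ).map (algebraMap Γ(P, W) (P.presheaf.stalk x)) := by
    rw [hψk, ← IsLocalization.AtPrime.map_eq_maximalIdeal (hV.primeIdealOf ⟨q x, trivial⟩).asIdeal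
      (T.presheaf.stalk (q x)), hmax, Ideal.map_map, Ideal.map_map, Ideal.map_map]
    refine congrArg (fun g => Ideal.map g (maximalIdeal R)) (RingHom.ext fun r => ?_)
    exact FlatOpen.Scheme.stalkMap_germ q e x hxW (ι r)
  have hI : ∀ b ∈ p₁, ∃ t ∉ p, t * b ∈ (maximalIdeal R).map (algebraMap R Γ(P, W)) := by
    intro b hb
    let I' := ((maximalIdeal R).map φ).map (algebraMap Γ(P, W) (P.presheaf.stalk x))
    have h1 : algebraMap Γ(P, W) (P.presheaf.stalk x) b ∈ I'.radical := by
      rw [Ideal.radical_eq_sInf, Submodule.mem_sInf]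
      rintro J ⟨hIJ, hJ⟩
      haveI := hJ
      let Q : PrimeSpectrum Γ(P, W) := ⟨Ideal.comap (algebraMap Γ(P, W) (P.presheaf.stalk x)) J, Ideal.IsPrime.comap _⟩
      have hQp : Q.asIdeal ≤ p := by
        intro c hc
        by_contra hcp
        exact hJ.ne_top (Ideal.eq_top_of_isUnit_mem J hc (IsLocalization.map_units (P.presheaf.stalk x) (⟨c, hcp⟩ : p.primeCompl)))
      have hspec : hW.fromSpec Q ⤳ x := by
        have h5 := ((PrimeSpectrum.le_iff_specializes Q (hW.primeIdealOf ⟨x, hxW⟩)).mp hQp).map hW.fromSpec.continuous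
        exact h5.trans (specializes_of_eq (hW.fromSpec_primeIdealOf ⟨x, hxW⟩))
      have hQfib : q (hW.fromSpec Q) = q x := by
        refine hx.symm ▸ PrimeSpectrum.ext ?_
        rw [hqP Q]
        refine le_antisymm (IsLocalRing.le_maximalIdeal ?_) fun r hr => ?_
        · exact (Ideal.IsPrime.comap φ).ne_top
        · exact hIJ (Ideal.mem_map_of_mem _ (Ideal.mem_map_of_mem _ hr))
      have h2 : hW.primeIdealOf ⟨hW.fromSpec Q, hspec.mem_open W.2 hxW⟩ = Q :=
        hW.fromSpec.isOpenEmbedding.injective (hW.fromSpec_primeIdealOf _)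
      have h3 := hle hξW (hspec.mem_open W.2 hxW) (huniq _ hQfib hspec)
      rw [h2] at h3
      exact h3 hb
    obtain ⟨n, hn⟩ := h1
    have h2 : ψ (algebraMap Γ(P, W) (P.presheaf.stalk x) b) = 0 := IsReduced.eq_zero _ ⟨n, by
      rw [← map_pow]
      exact hker.ge hn⟩
    exact (IsLocalization.algebraMap_mem_map_algebraMap_iff p.primeCompl _ _ _).mp (hker.le h2)
  have hbot := map_eq_bot_of_le_special (R := R) p Qz hQz hmaxp fun b hb => hI b (hle hzW hξW hzξ hb)
  have hzero : ∀ b ∈ Qz, ∃ t ∉ p, t * b = 0 := fun b hb => by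
    have h1 := Ideal.mem_map_of_mem (algebraMap Γ(P, W) (Localization.AtPrime p)) hb
    rw [hbot, Ideal.mem_bot, IsLocalization.map_eq_zero_iff p.primeCompl] at h1
    obtain ⟨⟨t, ht⟩, htb⟩ := h1
    exact ⟨t, ht, htb⟩
  refine ⟨?_, fun w hw => ?_⟩
  · haveI : Nontrivial (P.presheaf.stalk x) := inferInstance
    haveI : NoZeroDivisors (P.presheaf.stalk x) := ⟨fun {u v} huv => by
      obtain ⟨a, s, rfl⟩ := IsLocalization.exists_mk'_eq p.primeCompl u
      obtain ⟨a', s', rfl⟩ := IsLocalization.exists_mk'_eq p.primeCompl v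
      rw [← IsLocalization.mk'_mul, IsLocalization.mk'_eq_zero_iff] at huv
      obtain ⟨⟨c, hc⟩, hca⟩ := huv
      have hmem : a * a' ∈ Qz := (Ideal.IsPrime.mem_or_mem inferInstance
        (show c * (a * a') ∈ Qz from hca ▸ Qz.zero_mem)).resolve_left
        fun h => hc (hle hzW hxW (hzξ.trans hξx) h)
      have key : ∀ d (s₀ : p.primeCompl), d ∈ Qz → IsLocalization.mk' (P.presheaf.stalk x) d s₀ = 0 :=
        fun d s₀ hd => by
          obtain ⟨t, ht, htd⟩ := hzero d hd
          exact (IsLocalization.mk'_eq_zero_iff d s₀).mpr ⟨⟨t, ht⟩, htd⟩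
      exact (Ideal.IsPrime.mem_or_mem inferInstance hmem).imp (key a s) (key a' s')⟩
    exact NoZeroDivisors.to_isDomain _
  · have hwW : w ∈ W := hw.mem_open W.2 hxW
    suffices h : hW.fromSpec (hW.primeIdealOf ⟨z, hzW⟩) ⤳ hW.fromSpec (hW.primeIdealOf ⟨w, hwW⟩) by
      rwa [hW.fromSpec_primeIdealOf, hW.fromSpec_primeIdealOf] at h
    refine ((PrimeSpectrum.le_iff_specializes (hW.primeIdealOf ⟨z, hzW⟩) (hW.primeIdealOf ⟨w, hwW⟩)).mp
      fun b hb => ?_).map hW.fromSpec.continuous
    obtain ⟨t, ht, htb⟩ := hzero b hb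
    exact ((Ideal.IsPrime.mem_or_mem (hW.primeIdealOf ⟨w, hwW⟩).isPrime
      (show t * b ∈ _ from htb ▸ Submodule.zero_mem _)).resolve_left fun h => ht (hle hwW hxW hw h))


/-- A reduced ring of sections stays reduced at generizations. -/
theorem isReduced_stalk_of_isReduced {P : Scheme.{u}} {a b : P} (h : a ⤳ b)
    (hb : _root_.IsReduced (P.presheaf.stalk b)) : _root_.IsReduced (P.presheaf.stalk a) := by
  obtain ⟨W, hW, hbW, -⟩ := exists_isAffineOpen_mem_and_subset (x := b) (U := ⊤) trivial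
  have haW : a ∈ W := h.mem_open W.2 hbW
  let p := (hW.primeIdealOf ⟨b, hbW⟩).asIdeal
  let p' := (hW.primeIdealOf ⟨a, haW⟩).asIdeal
  letI : Algebra Γ(P, W) (P.presheaf.stalk b) := (P.presheaf.germ W b hbW).hom.toAlgebra
  letI : Algebra Γ(P, W) (P.presheaf.stalk a) := (P.presheaf.germ W a haW).hom.toAlgebra
  haveI : IsLocalization.AtPrime (P.presheaf.stalk b) p := hW.isLocalization_stalk ⟨b, hbW⟩
  haveI : IsLocalization.AtPrime (P.presheaf.stalk a) p' := hW.isLocalization_stalk ⟨a, haW⟩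
  have hle : p' ≤ p := by
    refine (PrimeSpectrum.le_iff_specializes (hW.primeIdealOf ⟨a, haW⟩) (hW.primeIdealOf ⟨b, hbW⟩)).mpr
      (hW.fromSpec.isOpenEmbedding.isEmbedding.specializes_iff.mp ?_)
    show hW.fromSpec (hW.primeIdealOf ⟨a, haW⟩) ⤳ hW.fromSpec (hW.primeIdealOf ⟨b, hbW⟩)
    rw [hW.fromSpec_primeIdealOf, hW.fromSpec_primeIdealOf]
    exact h
  refine ⟨fun u hu => ?_⟩
  obtain ⟨c, s, rfl⟩ := IsLocalization.exists_mk'_eq p'.primeCompl u
  obtain ⟨n, hn⟩ := hu
  rw [← IsLocalization.mk'_pow, IsLocalization.mk'_eq_zero_iff] at hn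
  obtain ⟨⟨t, ht⟩, htc⟩ := hn
  have h1 : IsNilpotent (algebraMap Γ(P, W) (P.presheaf.stalk b) (t * c)) := IsNilpotent.map ⟨n + 1, by
    calc (t * c) ^ (n + 1) = t ^ n * c * (t * c ^ n) := by ring
      _ = 0 := by rw [show t * c ^ n = 0 from htc, mul_zero]⟩ _
  obtain ⟨⟨v, hv⟩, hvc⟩ := (IsLocalization.map_eq_zero_iff p.primeCompl _ _).mp h1.eq_zero
  rw [IsLocalization.mk'_eq_zero_iff]
  exact ⟨⟨v * t, p'.primeCompl.mul_mem (fun h => hv (hle h)) ht⟩, by
    show v * t * c = 0
    rw [mul_assoc]; exact hvc⟩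

open Limits in
/-- EGA IV 15.6.7 without Noetherian hypotheses: along a generization of a point where the fibre is
geometrically reduced, one stays in the section components and in the geometrically reduced locus. -/
theorem mem_of_specializes {X Y : Scheme.{u}} (f : X ⟶ Y) [LocallyOfFiniteType f] (g : Y ⟶ X)
    (hg : g ≫ f = 𝟙 Y) {y : Y}
    (hirr : ∀ (K : Type u) [Field K] [Algebra (IsLocalRing.ResidueField (Y.presheaf.stalk y)) K],
        IsIrreducible ((FBase.bcπ (f.fiberToSpecResidueField y) K ≫ f.fiberι y).base ⁻¹'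
          connectedComponentIn (f.base ⁻¹' {y}) (g.base y)))
    (hdim : ∀ z, z ⤳ y → FlatMor.fibreDimAt f (g y) ≤ FlatMor.fibreDimAt f (g z)) {x x' : X}
    (hxC : x ∈ connectedComponentIn (f ⁻¹' {y}) (g y)) (hx : x ∈ GRLocus.locus f) (h : x' ⤳ x) :
    x' ∈ MoreMor.sectionComponents f g ∧ x' ∈ GRLocus.locus f := by
  have hfx : f x = y := (connectedComponentIn_subset (f ⁻¹' {y}) _ hxC :)
  obtain ⟨U, hU, hxU, -⟩ := exists_isAffineOpen_mem_and_subset (x := x) (U := ⊤) trivial
  obtain ⟨p₁, rfl⟩ : x ∈ Set.range hU.fromSpec := by rw [hU.range_fromSpec]; exact hxU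
  obtain ⟨p₀, rfl⟩ : x' ∈ Set.range hU.fromSpec := by rw [hU.range_fromSpec]; exact h.mem_open U.2 hxU
  have hpq : p₀.asIdeal ≤ p₁.asIdeal :=
    (PrimeSpectrum.le_iff_specializes p₀ p₁).mpr (hU.fromSpec.isOpenEmbedding.isInducing.specializes_iff.mp h)
  let K := AlgebraicClosure p₀.asIdeal.ResidueField
  let gK : Γ(X, U) →+* K :=
    (algebraMap p₀.asIdeal.ResidueField K).comp (algebraMap Γ(X, U) p₀.asIdeal.ResidueField)
  have hgk : RingHom.ker gK = p₀.asIdeal := by
    rw [RingHom.ker_comp_of_injective _ (algebraMap p₀.asIdeal.ResidueField K).injective,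
      Ideal.ker_algebraMap_residueField]
  obtain ⟨V, g', hg', hker⟩ := EtaPtLib.exists_valuationSubring gK p₁ (le_of_eq_of_le hgk hpq)
  let T := Spec (CommRingCat.of V)
  let l : T ⟶ X := Spec.map (CommRingCat.ofHom g') ≫ hU.fromSpec
  let η : Spec (CommRingCat.of K) ⟶ T := Spec.map (CommRingCat.ofHom (algebraMap V K))
  let c : ↥T := IsLocalRing.closedPoint V
  let o : ↥(Spec (CommRingCat.of K)) := IsLocalRing.closedPoint K
  have hlc : l c = hU.fromSpec p₁ := by
    show hU.fromSpec (PrimeSpectrum.comap g' (IsLocalRing.closedPoint V)) = _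
    refine congrArg hU.fromSpec (PrimeSpectrum.ext ?_)
    show (IsLocalRing.maximalIdeal V).comap g' = p₁.asIdeal
    rw [← hker, ← RingHom.comap_ker, IsLocalRing.ker_residue]
  have hlo : l (η o) = hU.fromSpec p₀ := by
    show hU.fromSpec (PrimeSpectrum.comap g' (PrimeSpectrum.comap (algebraMap V K) (IsLocalRing.closedPoint K))) = _
    refine congrArg hU.fromSpec (PrimeSpectrum.ext ?_)
    show ((IsLocalRing.maximalIdeal K).comap (algebraMap V K)).comap g' = p₀.asIdeal
    rw [Ideal.comap_comap, IsLocalRing.maximalIdeal_eq_bot, ← RingHom.ker_eq_comap_bot]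
    show RingHom.ker (V.subtype.comp g') = p₀.asIdeal
    rw [hg', hgk]
  let b := l ≫ f
  let P := pullback f b
  let q := pullback.snd f b
  let σ : T ⟶ P := pullback.lift l (𝟙 T) (by rw [Category.id_comp])
  have hσ : ∀ t, q (σ t) = t ∧ pullback.fst f b (σ t) = l t := fun t =>
    ⟨congrArg (fun m => (m : T ⟶ T) t) (pullback.lift_snd l (𝟙 T) _),
      congrArg (fun m => (m : T ⟶ X) t) (pullback.lift_fst l (𝟙 T) _)⟩
  haveI : LocallyOfFiniteType q := inferInstanceAs (LocallyOfFiniteType (pullback.snd f b))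
  have hqc : q (σ c) = IsLocalRing.closedPoint V := (hσ c).1
  have hred : _root_.IsReduced ((q.fiber (q (σ c))).presheaf.stalk (q.asFiber (σ c))) :=
    SecComp.Generize.isReduced_stalk_fiber f b (q (σ c)) (q.asFiber (σ c)) (hU.fromSpec p₁)
      (by
        show pullback.fst f b (q.fiberι (q (σ c)) (q.asFiber (σ c))) = _
        rw [Scheme.Hom.fiberι_asFiber, (hσ c).2, hlc]) hx
  have hspec : σ (η o) ⤳ σ c := (IsLocalRing.specializes_closedPoint (η o)).map σ.continuous
  have hηo : η o = genericPoint T := by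
    refine (Eq.trans (genericPoint_eq_bot_of_affine (CommRingCat.of V)) (PrimeSpectrum.ext ?_).symm).symm
    show Ideal.comap (algebraMap V K) (IsLocalRing.maximalIdeal K) = ⊥
    rw [IsLocalRing.maximalIdeal_eq_bot]
    exact (RingHom.injective_iff_ker_eq_bot _).mp (IsFractionRing.injective V K)
  -- the section of the base change
  let τ : T ⟶ P := pullback.lift (b ≫ g) (𝟙 T) (by rw [Category.assoc, hg, Category.comp_id, Category.id_comp])
  have hτq : τ ≫ q = 𝟙 T := pullback.lift_snd _ _ _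
  have hτp : τ ≫ pullback.fst f b = b ≫ g := pullback.lift_fst _ _ _
  have hpb : IsPullback (pullback.fst f b) q f b := IsPullback.of_hasPullback f b
  have hqτ : ∀ t, q (τ t) = t := fun t => by rw [← Scheme.Hom.comp_apply, hτq]; rfl
  have hpτ : ∀ t, pullback.fst f b (τ t) = g (b t) := fun t => by
    rw [← Scheme.Hom.comp_apply, hτp, Scheme.Hom.comp_apply]
  have hbc : b c = y := by rw [Scheme.Hom.comp_apply, hlc]; exact hfx
  have hC := isIrreducible_baseChange_at f g hg hpb hτq hτp hirr hbc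
  have hd : FlatMor.fibreDimAt q (τ c) ≤ FlatMor.fibreDimAt q (τ (η o)) := by
    rw [AlgSpD.fibreDimAt_of_isPullback f hpb, AlgSpD.fibreDimAt_of_isPullback f hpb, hpτ, hpτ, hbc]
    exact hdim _ (hbc ▸ (IsLocalRing.specializes_closedPoint (η o)).map b.continuous)
  obtain ⟨z, hqz, hzτ, hzm, hsub⟩ := subset_closure_of_fibreDimAt q τ hτq
    (IsLocalRing.specializes_closedPoint (η o)) hC hd
  obtain ⟨ξ', hqξ, -, -, hCξ, -⟩ := exists_generic q (hqτ c) hC
  have hσC : σ c ∈ connectedComponentIn (q ⁻¹' {c}) (τ c) := by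
    rw [SecComp.mem_component_iff f g hg q (pullback.fst f b) b hpb τ hτq hτp c, hbc]
    exact ⟨by rw [Set.mem_preimage, (hσ c).2, hlc]; exact hxC, hqc⟩
  have hξσ : ξ' ⤳ σ c := specializes_iff_mem_closure.mpr (hCξ.subset hσC).1
  have huniq : ∀ w, q w = q (σ c) → w ⤳ σ c → ξ' ⤳ w := fun w hw hwx => by
    have hwc : q w = c := hw.trans hqc
    have h1 : w ∈ connectedComponentIn (q ⁻¹' {c}) (τ c) := by
      rw [connectedComponentIn_eq hσC]
      exact mem_component_of_specializes q hwc hqc hwc hwx specializes_rfl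
    exact specializes_iff_mem_closure.mpr (hCξ.subset h1).1
  have hξC : ξ' ∈ connectedComponentIn (q ⁻¹' {c}) (τ c) := hCξ.ge ⟨subset_closure rfl, hqξ⟩
  obtain ⟨hdom, hgen⟩ := isDomain_stalk_valuation q hqc hred (hqξ.trans hqc.symm) hξσ huniq
    (specializes_iff_mem_closure.mpr (hsub hξC)) (hqz.trans hηo)
  haveI := hdom
  haveI hredo : _root_.IsReduced (P.presheaf.stalk (σ (η o))) :=
    isReduced_stalk_of_isReduced hspec inferInstance
  have hσηC : σ (η o) ∈ connectedComponentIn (q ⁻¹' {η o}) (τ (η o)) :=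
    mem_component_of_specializes q hqz (hqτ (η o)) (hσ (η o)).1 hzτ (hgen _ hspec)
  have hbo : b (η o) = f (hU.fromSpec p₀) := by rw [Scheme.Hom.comp_apply, hlo]
  refine ⟨?_, ?_⟩
  · show hU.fromSpec p₀ ∈ connectedComponentIn (f ⁻¹' {f (hU.fromSpec p₀)}) (g (f (hU.fromSpec p₀)))
    rw [SecComp.mem_component_iff f g hg q (pullback.fst f b) b hpb τ hτq hτp (η o), hbo] at hσηC
    have h1 := hσηC.1
    rw [Set.mem_preimage, (hσ _).2, hlo] at h1
    exact h1
  haveI : Flat η := (HasRingHomProperty.Spec_iff (P := @Flat)).mpr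
    (RingHom.flat_algebraMap_iff.mpr (IsLocalization.flat K (nonZeroDivisors V)))
  haveI : IsPreimmersion η := IsPreimmersion.of_isLocalization (nonZeroDivisors V)
  obtain ⟨w, hw₁, hw₂⟩ := Scheme.Pullback.exists_preimage_pullback (f := q) (g := η) (σ (η o)) o (hσ _).1
  haveI : _root_.IsReduced (P.presheaf.stalk (pullback.fst q η w)) := by rw [hw₁]; exact hredo
  haveI hredw : _root_.IsReduced ((pullback q η).presheaf.stalk w) :=
    isReduced_of_injective (RingEquiv.ofBijective _ (stalkMap_bijective_of_flat (pullback.fst q η) w)).symm.toRingHom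
      (RingEquiv.ofBijective _ (stalkMap_bijective_of_flat (pullback.fst q η) w)).symm.injective
  obtain ⟨⟨y, φ⟩, hφ⟩ := (Scheme.SpecToEquivOfField K Y).symm.surjective (η ≫ b)
  have hy : f (hU.fromSpec p₀) = y := by
    have h1 := congrArg (fun m : Spec (CommRingCat.of K) ⟶ Y => m o) hφ
    simp only [Scheme.SpecToEquivOfField, Equiv.coe_fn_symm_mk, Scheme.Hom.comp_apply, b] at h1
    rw [Scheme.fromSpecResidueField_apply, hlo] at h1
    exact h1.symm
  refine SecComp.isGeomReducedAt_of_fiber f _ hy fun z hz => ?_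
  let fk := f.fiberToSpecResidueField y
  let ψ := Spec.map φ
  have hψ : ψ ≫ Y.fromSpecResidueField y = η ≫ b := hφ
  have h1 : IsPullback (pullback.fst fk ψ ≫ f.fiberι y) (pullback.snd fk ψ) f (η ≫ b) :=
    hψ ▸ (IsPullback.of_hasPullback fk ψ).paste_horiz
      (IsPullback.of_hasPullback f (Y.fromSpecResidueField y))
  have h2 : IsPullback (pullback.fst q η ≫ pullback.fst f b) (pullback.snd q η) f (η ≫ b) :=
    (IsPullback.of_hasPullback q η).paste_horiz (IsPullback.of_hasPullback f b)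
  let e := h2.isoIsPullback _ _ h1
  have he : e.hom ≫ pullback.fst fk ψ ≫ f.fiberι y = pullback.fst q η ≫ pullback.fst f b :=
    h2.isoIsPullback_hom_fst _ _ h1
  refine @Groth.Agent.S2521.result _ K _ _ φ.hom.toAlgebra _ _ fk z (e.hom w) ((f.fiberι y).isEmbedding.injective ?_) ?_
  · rw [hz]
    refine (congrArg (fun m => (m : _ ⟶ X) w) he).trans ?_
    show pullback.fst f b (pullback.fst q η w) = _
    rw [hw₁, (hσ _).2, hlo]
  · show _root_.IsReduced ((pullback fk ψ).presheaf.stalk (e.hom w))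
    exact isReduced_of_injective (asIso (e.hom.stalkMap w)).commRingCatIsoToRingEquiv.toRingHom
      (asIso (e.hom.stalkMap w)).commRingCatIsoToRingEquiv.injective

end Groth.Agent.SecDim
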