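import Mathlib
import Groth.Agent.SecDim.GenRed
import Groth.Agent.GRLocus.Constructible
import Groth.Agent.SecComp.Nbhd

/-!
The section components near a geometrically reduced point, dimension constant (EGA IV 15.6.7).
-/

set_option autoImplicit false
set_option linter.style.haveILetI false
universe u
open CategoryTheory AlgebraicGeometry Limits Topology TopologicalSpace

noncomputable section

namespace Groth.Agent.SecDim

variable {X Y : Scheme.{u}}

/-- A locally constructible set containing all generizations of a point is a neighbourhood of it. -/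
theorem mem_nhds_of_generizations {E : Set X} (hE : IsLocallyConstructible E) {x : X}
    (h : ∀ x', x' ⤳ x → x' ∈ E) : E ∈ nhds x := by
  by_contra hne
  have hcl : x ∈ closure Eᶜ := by
    rw [mem_closure_iff_nhds]
    intro N hN
    by_contra hN'
    rw [Set.not_nonempty_iff_eq_empty] at hN'
    exact hne (Filter.mem_of_superset hN fun w hw => by
      by_contra hw'
      exact (hN'.le ⟨hw, hw'⟩ : w ∈ (∅ : Set _)))
  obtain ⟨z, hz, hzx⟩ := LimTop.exists_specializes_of_mem_closure
    (LimTop.isProConstructible_of_isLocallyConstructible (LimTop.isLocallyConstructible_compl hE)) hcl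
  exact hz (h z hzx)

/-- Section components are neighbourhoods of points all whose generizations they contain. -/
theorem sectionComponents_mem_nhds [IsLocallyNoetherian Y] (f : X ⟶ Y) [LocallyOfFiniteType f]
    (s : Y ⟶ X) (hs : s ≫ f = 𝟙 Y) (hirr : ∀ y, IsIrreducible (connectedComponentIn (f ⁻¹' {y}) (s y)))
    {x : X} (h : ∀ x', x' ⤳ x → x' ∈ MoreMor.sectionComponents f s) :
    MoreMor.sectionComponents f s ∈ nhds x := by
  obtain ⟨U₁, hU₁, hxU₁, -⟩ := exists_isAffineOpen_mem_and_subset (x := x) (U := ⊤) trivial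
  obtain ⟨U₂, hU₂, hsU₂, -⟩ := exists_isAffineOpen_mem_and_subset (x := s (f x)) (U := ⊤) trivial
  let U : X.Opens := U₁ ⊔ U₂
  have hUc : IsCompact (U : Set X) := hU₁.isCompact.union hU₂.isCompact
  obtain ⟨V, hV, hyV, hVU⟩ := exists_isAffineOpen_mem_and_subset (x := f x) (U := s ⁻¹ᵁ U) (Or.inr hsU₂)
  let g := U.ι ≫ f
  haveI : CompactSpace ↥(U : Scheme.{u}) := isCompact_iff_compactSpace.mp hUc
  haveI : IsLocallyNoetherian X := LocallyOfFiniteType.isLocallyNoetherian f
  haveI : QuasiCompact g := quasiCompact_of_compactSpace g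
  let f' := g ∣_ V
  let j := (g ⁻¹ᵁ V).ι ≫ U.ι
  have w : f' ≫ V.ι = j ≫ f := by rw [morphismRestrict_ι, Category.assoc]
  let sU : (V : Scheme.{u}) ⟶ (U : Scheme.{u}) := IsOpenImmersion.lift U.ι (V.ι ≫ s) (by
    rintro _ ⟨t, rfl⟩
    rw [Scheme.Opens.range_ι, Scheme.Hom.comp_apply]
    exact hVU t.2)
  have hsU : sU ≫ U.ι = V.ι ≫ s := IsOpenImmersion.lift_fac _ _ _
  let s' := (isPullback_morphismRestrict g V).flip.lift sU (𝟙 _)
    (by rw [← Category.assoc, hsU, Category.assoc, hs, Category.comp_id, Category.id_comp])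
  have hs' : s' ≫ f' = 𝟙 _ := (isPullback_morphismRestrict g V).flip.lift_snd _ _ _
  have hs'j : s' ≫ j = V.ι ≫ s := by
    rw [← Category.assoc, (isPullback_morphismRestrict g V).flip.lift_fst, hsU]
  haveI : IsOpenImmersion j := inferInstance
  have hjs : ∀ t, j (s' t) = s t.1 := fun t => by
    rw [← Scheme.Hom.comp_apply, hs'j, Scheme.Hom.comp_apply]; rfl
  have hfib : ∀ z, f (j z) = (f' z).1 := fun z => by
    rw [← Scheme.Hom.comp_apply, ← w, Scheme.Hom.comp_apply]; rfl
  have hf's : ∀ t, f' (s' t) = t := fun t => by rw [← Scheme.Hom.comp_apply, hs']; rfl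
  have heq : MoreMor.sectionComponents f' s' = j ⁻¹' MoreMor.sectionComponents f s := by
    ext v
    constructor
    · intro hv
      show j v ∈ connectedComponentIn (f ⁻¹' {f (j v)}) (s (f (j v)))
      rw [hfib]
      refine (isPreconnected_connectedComponentIn.image j j.continuous.continuousOn).subset_connectedComponentIn
        ⟨s' (f' v), mem_connectedComponentIn (hf's _), hjs _⟩ ?_ ⟨v, hv, rfl⟩
      rintro _ ⟨w', hw', rfl⟩
      exact (hfib w').trans (congrArg Subtype.val (connectedComponentIn_subset (f' ⁻¹' {f' v}) _ hw' :))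
    · intro hv
      have hv' : j v ∈ connectedComponentIn (f ⁻¹' {f (j v)}) (s (f (j v))) := hv
      rw [hfib] at hv'
      let C := connectedComponentIn (f ⁻¹' {(f' v).1}) (s (f' v).1)
      have hC : IsPreirreducible (C ∩ Set.range j) := by
        rintro u u' hu hu' ⟨a, ⟨haC, haR⟩, hau⟩ ⟨b, ⟨hbC, hbR⟩, hbu⟩
        obtain ⟨r, hrC, hru, hru'⟩ := (hirr _).2 (u ∩ Set.range j) (u' ∩ Set.range j)
          (hu.inter j.isOpenEmbedding.isOpen_range) (hu'.inter j.isOpenEmbedding.isOpen_range)
          ⟨a, haC, hau, haR⟩ ⟨b, hbC, hbu, hbR⟩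
        exact ⟨r, ⟨hrC, hru.2⟩, hru.1, hru'.1⟩
      have hpre : _root_.IsPreconnected (j ⁻¹' C) := by
        rw [← j.isEmbedding.isInducing.isPreconnected_image, Set.image_preimage_eq_inter_range]
        exact hC.isPreconnected
      refine hpre.subset_connectedComponentIn ?_ ?_ hv'
      · show j (s' (f' v)) ∈ C
        rw [hjs]
        refine mem_connectedComponentIn ?_
        show f (s _) = _
        rw [← Scheme.Hom.comp_apply, hs]; rfl
      · intro a ha
        exact Subtype.ext ((hfib a).symm.trans (connectedComponentIn_subset (f ⁻¹' {(f' v).1}) _ ha :))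
  haveI : IsLocallyNoetherian (V : Scheme.{u}) := isLocallyNoetherian_of_isOpenImmersion V.ι
  haveI : CompactSpace ↥(V : Scheme.{u}) := isCompact_iff_compactSpace.mp hV.isCompact
  haveI : IsLocallyNoetherian ((g ⁻¹ᵁ V) : Scheme.{u}) := LocallyOfFiniteType.isLocallyNoetherian f'
  haveI : CompactSpace ↥((g ⁻¹ᵁ V) : Scheme.{u}) := QuasiCompact.compactSpace_of_compactSpace f'
  haveI : IsNoetherian ((g ⁻¹ᵁ V) : Scheme.{u}) := {}
  let z₀ : ↥((g ⁻¹ᵁ V) : Scheme.{u}) := ⟨⟨x, Or.inl hxU₁⟩, hyV⟩
  have hE := mem_nhds_of_generizations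
    (SecComp.isConstructible_sectionComponents f' s' hs').isLocallyConstructible (x := z₀) fun z hz => by
      rw [heq]
      exact h _ (hz.map j.continuous)
  refine Filter.mem_of_superset (j.isOpenMap.image_mem_nhds hE) ?_
  rintro _ ⟨v, hv, rfl⟩
  rw [heq] at hv
  exact hv

/-- Constancy of the dimension near `y` bounds fibre dimensions at the section along generizations. -/
theorem fibreDimAt_le_of_const (f : X ⟶ Y) [LocallyOfFiniteType f] (g : Y ⟶ X) (hg : g ≫ f = 𝟙 Y)
    (hirr : ∀ y, IsIrreducible (connectedComponentIn (f ⁻¹' {y}) (g y))) {y : Y}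
    (hc : ∃ V ∈ nhds y, ∀ z ∈ V, topologicalKrullDim ↥(connectedComponentIn (f ⁻¹' {z}) (g z)) =
      topologicalKrullDim ↥(connectedComponentIn (f ⁻¹' {y}) (g y))) :
    ∀ z, z ⤳ y → FlatMor.fibreDimAt f (g y) ≤ FlatMor.fibreDimAt f (g z) := by
  have hgy : ∀ y, f (g y) = y := fun y => by rw [← Scheme.Hom.comp_apply, hg]; rfl
  obtain ⟨V, hV, hVd⟩ := hc
  intro z hz
  rw [← topDim_component_eq f (hgy y) (hirr y), ← topDim_component_eq f (hgy z) (hirr z),
    hVd z (interior_subset (hz.mem_open isOpen_interior (mem_interior_iff_mem_nhds.mpr hV)))]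

end Groth.Agent.SecDim
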