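import Mathlib
import Groth.Agent.FlatMor.FibreStalk
import Groth.Agent.SecDim.BaseChange
import Groth.Agent.SecDim.RedBC
import Groth.Agent.GUOpen.Crit
import Groth.Agent.GUOpen.Converse
import Groth.Agent.OpenAt.Basic
import Groth.Agent.SecComp.Generize
import Groth.Agent.RatMapExt.Valuative
import Groth.Agent.S2561

/-!
Criterion (α) of EGA IV 15.6.6: universal openness at the generic point of the section component plus geometric
reducedness at the section keeps the dimension of the component under generization.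
-/
set_option autoImplicit false
set_option linter.style.haveILetI false

open CategoryTheory AlgebraicGeometry IsLocalRing Topology

universe u
namespace Groth.Agent.SecDim

/-- A Noetherian local ring with a regular element generating a prime ideal is a domain. -/
theorem isDomain_of_regular_prime {B : Type*} [CommRing B] [IsLocalRing B] [IsNoetherianRing B] {π : B}
    (hπ : IsSMulRegular B π) (hp : (Ideal.span {π}).IsPrime) : IsDomain B := by
  obtain ⟨P, hP, hPle⟩ := Ideal.exists_minimalPrimes_le (I := (⊥ : Ideal B)) (J := Ideal.span {π}) bot_le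
  haveI : P.IsPrime := hP.1.1
  have hπP : π ∉ P := by
    intro h
    refine Set.disjoint_left.mp (Ideal.disjoint_nonZeroDivisors_of_mem_minimalPrimes hP) h ?_
    rw [SetLike.mem_coe, mem_nonZeroDivisors_iff_right]
    exact fun z hz => hπ (show π • z = π • (0 : B) by rw [smul_zero, smul_eq_mul, mul_comm]; exact hz)
  have hPm : P ≤ Ideal.span {π} • P := by
    intro x hx
    obtain ⟨b, rfl⟩ := Ideal.mem_span_singleton'.mp (hPle hx)
    rw [smul_eq_mul, mul_comm b π]
    exact Ideal.mul_mem_mul (Ideal.mem_span_singleton_self π) ((Ideal.IsPrime.mem_or_mem ‹_› hx).resolve_right hπP)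
  have hbot : P = ⊥ := Submodule.eq_bot_of_le_smul_of_le_jacobson_bot (Ideal.span {π}) P
    (IsNoetherian.noetherian P) hPm (by
      rw [IsLocalRing.jacobson_eq_maximalIdeal ⊥ bot_ne_top]
      exact IsLocalRing.le_maximalIdeal hp.ne_top)
  subst hbot
  exact IsDomain.of_bot_isPrime B

/-- Over a base whose local ring is a one-dimensional principal domain: a flat point whose fibre is
reduced and irreducible there has a domain as local ring. -/
theorem isDomain_stalk {P T : Scheme.{u}} [IsLocallyNoetherian P] (q : P ⟶ T) (x : P)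
    [IsDomain (T.presheaf.stalk (q x))] {π : T.presheaf.stalk (q x)}
    (hm : maximalIdeal (T.presheaf.stalk (q x)) = Ideal.span {π}) (hπ : π ≠ 0)
    (hflat : (q.stalkMap x).hom.Flat)
    (hred : _root_.IsReduced ((q.fiber (q x)).presheaf.stalk (q.asFiber x)))
    (ξ : P) (hξ : q ξ = q x) (hξx : ξ ⤳ x) (huniq : ∀ w, q w = q x → w ⤳ x → ξ ⤳ w) :
    IsDomain (P.presheaf.stalk x) := by
  obtain ⟨φ, hφs, hφk⟩ := FlatMor.FibreStalk.exists_fibre_stalk q x
  have hker : RingHom.ker φ = Ideal.span {(q.stalkMap x).hom π} := by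
    rw [hφk, hm, Ideal.map_span, Set.image_singleton]
  let I := Ideal.span {(q.stalkMap x).hom π}
  have hrad : I.radical ≤ I := by
    intro b hb
    obtain ⟨n, hn⟩ := hb
    have hnk : φ b ^ n = 0 := by rw [← map_pow]; exact hker.ge hn
    exact hker.le (IsReduced.eq_zero _ ⟨n, hnk⟩)
  have hfib : ∀ Q : PrimeSpectrum (P.presheaf.stalk x),
      q (P.fromSpecStalk x Q) = q x ↔ I ≤ Q.asIdeal := by
    intro Q
    have h1 : q (P.fromSpecStalk x Q) = T.fromSpecStalk (q x) (PrimeSpectrum.comap (q.stalkMap x).hom Q) := by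
      exact (congrArg (fun m : Spec (P.presheaf.stalk x) ⟶ T => m Q)
        (Scheme.SpecMap_stalkMap_fromSpecStalk (f := q) (x := x))).symm
    have h2 : q x = T.fromSpecStalk (q x) (IsLocalRing.closedPoint (T.presheaf.stalk (q x))) :=
      Scheme.fromSpecStalk_closedPoint.symm
    have h3 : q (P.fromSpecStalk x Q) = q x ↔
        T.fromSpecStalk (q x) (PrimeSpectrum.comap (q.stalkMap x).hom Q) =
          T.fromSpecStalk (q x) (IsLocalRing.closedPoint (T.presheaf.stalk (q x))) := by
      rw [h1, ← h2]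
    rw [h3]
    constructor
    · intro h
      have h4 : Q.asIdeal.comap (q.stalkMap x).hom = maximalIdeal _ :=
        congrArg PrimeSpectrum.asIdeal ((T.fromSpecStalk (q x)).isEmbedding.injective h)
      rw [Ideal.span_le, Set.singleton_subset_iff]
      show π ∈ Q.asIdeal.comap (q.stalkMap x).hom
      rw [h4, hm]
      exact Ideal.mem_span_singleton_self π
    · intro h
      refine congrArg _ (PrimeSpectrum.ext (le_antisymm (IsLocalRing.le_maximalIdeal ?_) ?_))
      · exact (Ideal.IsPrime.comap (q.stalkMap x).hom).ne_top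
      · show maximalIdeal _ ≤ Q.asIdeal.comap (q.stalkMap x).hom
        rw [hm, Ideal.span_le, Set.singleton_subset_iff]
        exact h (Ideal.mem_span_singleton_self _)
  obtain ⟨p, hp⟩ : ξ ∈ Set.range (P.fromSpecStalk x) := by
    rw [Scheme.range_fromSpecStalk]
    exact hξx
  have hIp : I ≤ p.asIdeal := (hfib p).mp (by rw [hp]; exact hξ)
  have hpI : p.asIdeal ≤ I := by
    refine le_trans ?_ hrad
    rw [Ideal.radical_eq_sInf]
    refine le_sInf fun J hJ => ?_
    haveI := hJ.2
    let Q : PrimeSpectrum (P.presheaf.stalk x) := ⟨J, hJ.2⟩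
    have hQx : P.fromSpecStalk x Q ⤳ x := by
      have := Set.mem_range_self (f := P.fromSpecStalk x) Q
      rw [Scheme.range_fromSpecStalk] at this
      exact this
    have h := huniq _ ((hfib Q).mpr hJ.1) hQx
    rw [← hp] at h
    exact (PrimeSpectrum.le_iff_specializes p Q).mpr ((P.fromSpecStalk x).isEmbedding.specializes_iff.mp h)
  letI := (q.stalkMap x).hom.toAlgebra
  haveI : Module.Flat (T.presheaf.stalk (q x)) (P.presheaf.stalk x) := hflat
  haveI : IsNoetherianRing (P.presheaf.stalk x) := inferInstance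
  refine isDomain_of_regular_prime (π := (q.stalkMap x).hom π)
    (IsSMulRegular.of_flat (S := P.presheaf.stalk x) (fun a b h => mul_left_cancel₀ hπ h)) ?_
  rw [show Ideal.span {(q.stalkMap x).hom π} = p.asIdeal from le_antisymm hIp hpI]
  exact p.isPrime

/-- The local ring of the spectrum of a discrete valuation ring at its closed point. -/
theorem exists_uniformizer_stalk (A : Type u) [CommRing A] [IsDomain A] [IsDiscreteValuationRing A]
    (t : ↥(Spec (CommRingCat.of A))) (ht : t = closedPoint A) :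
    IsDomain ((Spec (CommRingCat.of A)).presheaf.stalk t) ∧
      ∃ π : (Spec (CommRingCat.of A)).presheaf.stalk t,
        maximalIdeal ((Spec (CommRingCat.of A)).presheaf.stalk t) = Ideal.span {π} ∧ π ≠ 0 := by
  subst ht
  let R := CommRingCat.of A
  let x : Spec R := closedPoint A
  letI : Algebra R ((Spec R).presheaf.stalk x) :=
    RingHom.toAlgebra <| by apply CommRingCat.Hom.hom; apply StructureSheaf.toStalk
  haveI hx : x.asIdeal.IsPrime := x.2
  haveI hloc : IsLocalization.AtPrime ((Spec R).presheaf.stalk x) x.asIdeal :=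
    StructureSheaf.IsLocalization.to_stalk R x
  haveI : IsDomain R := inferInstanceAs (IsDomain A)
  obtain ⟨ϖ, hϖ⟩ := IsDiscreteValuationRing.exists_irreducible A
  have hinj : Function.Injective (algebraMap R ((Spec R).presheaf.stalk x)) :=
    IsLocalization.injective (M := x.asIdeal.primeCompl) _ x.asIdeal.primeCompl_le_nonZeroDivisors
  refine ⟨IsLocalization.isDomain_of_le_nonZeroDivisors (M := x.asIdeal.primeCompl) (R := R) _
    x.asIdeal.primeCompl_le_nonZeroDivisors, algebraMap R _ ϖ, ?_,
    (map_ne_zero_iff _ hinj).mpr hϖ.ne_zero⟩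
  rw [← IsLocalization.AtPrime.map_eq_maximalIdeal x.asIdeal ((Spec R).presheaf.stalk x),
    show x.asIdeal = Ideal.span {ϖ} from (IsDiscreteValuationRing.irreducible_iff_uniformizer ϖ).mp hϖ,
    Ideal.map_span, Set.image_singleton]

open Limits in
/-- Criterion (α). -/
theorem topDim_le_of_geomReduced {X Y : Scheme.{u}} [IsLocallyNoetherian Y] (f : X ⟶ Y)
    [LocallyOfFiniteType f] (g : Y ⟶ X) (hg : g ≫ f = 𝟙 Y)
    (hgi : ∀ (y : Y) (K : Type u) [Field K] [Algebra (IsLocalRing.ResidueField (Y.presheaf.stalk y)) K],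
        IsIrreducible ((FBase.bcπ (f.fiberToSpecResidueField y) K ≫ f.fiberι y).base ⁻¹'
          connectedComponentIn (f.base ⁻¹' {y}) (g.base y)))
    {y₀ y' : Y} (hy : y' ⤳ y₀)
    (hopen : ∀ ξ ∈ connectedComponentIn (f.base ⁻¹' {y₀}) (g.base y₀),
      connectedComponentIn (f.base ⁻¹' {y₀}) (g.base y₀) ⊆ closure {ξ} → EGA43.IsUnivOpenAt f ξ)
    (hred : FBase.IsGeomReducedAt (f.fiberToSpecResidueField (f (g y₀))) (f.asFiber (g y₀))) :
    topologicalKrullDim ↥(connectedComponentIn (f ⁻¹' {y₀}) (g y₀)) ≤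
      topologicalKrullDim ↥(connectedComponentIn (f ⁻¹' {y'}) (g y')) := by
  rcases eq_or_ne y' y₀ with rfl | hne
  · exact le_rfl
  obtain ⟨A, _, _, _, h, hhc, hhη⟩ := RatMapExt.exists_dvr_of_specializes hy hne
  let T := Spec (CommRingCat.of A)
  let c : ↥T := closedPoint A
  let η : ↥T := genericPoint T
  have hη : h η = y' := by
    have ht := hhη (IsLocalRing.closedPoint (FractionRing A))
    rw [Scheme.Hom.comp_apply] at ht
    refine Eq.trans ?_ ht
    congr 1
    refine (genericPoint_eq_bot_of_affine (CommRingCat.of A)).trans (PrimeSpectrum.ext ?_).symm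
    show Ideal.comap (algebraMap A (FractionRing A)) (maximalIdeal (FractionRing A)) = ⊥
    rw [IsLocalRing.maximalIdeal_eq_bot]
    exact (RingHom.injective_iff_ker_eq_bot _).mp (IsFractionRing.injective A (FractionRing A))
  let p := pullback.fst f h
  let q := pullback.snd f h
  let s' : T ⟶ pullback f h :=
    pullback.lift (h ≫ g) (𝟙 _) (by rw [Category.assoc, hg, Category.comp_id, Category.id_comp])
  have hs' : s' ≫ q = 𝟙 _ := pullback.lift_snd _ _ _
  have hs'g : s' ≫ p = h ≫ g := pullback.lift_fst _ _ _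
  have hpb : IsPullback p q f h := IsPullback.of_hasPullback f h
  haveI : LocallyOfFiniteType q := MorphismProperty.of_isPullback hpb inferInstance
  haveI : IsLocallyNoetherian (pullback f h) := LocallyOfFiniteType.isLocallyNoetherian q
  have hqs : ∀ t, q (s' t) = t := fun t => by rw [← Scheme.Hom.comp_apply, hs']; rfl
  have hps : ∀ t, p (s' t) = g (h t) := fun t => by
    rw [← Scheme.Hom.comp_apply, hs'g, Scheme.Hom.comp_apply]
  have hgy : ∀ y, f (g y) = y := fun y => by rw [← Scheme.Hom.comp_apply, hg]; rfl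
  have hirr := isIrreducible_baseChange f g hg hpb hs' hs'g hgi
  have hmem := SecComp.mem_component_iff f g hg q p h hpb s' hs' hs'g
  obtain ⟨ξ', hqξ, hξx, hξm, hCξ, hfdξ⟩ := exists_generic q (hqs c) (hirr c)
  have hξm' : ∀ z, q z = q ξ' → z ⤳ ξ' → z = ξ' := fun z hz => hξm z (hz.trans hqξ)
  have hpξC : p ξ' ∈ connectedComponentIn (f ⁻¹' {y₀}) (g y₀) := by
    have h1 := (hmem c).subset (hCξ.ge ⟨subset_closure rfl, hqξ⟩)
    have h2 := h1.1
    rw [Set.mem_preimage, hhc] at h2
    exact h2
  have hξopen : EGA43.IsUnivOpenAt f (p ξ') := by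
    refine hopen _ hpξC fun w hw => ?_
    have hwy : f w = h c := ((connectedComponentIn_subset (f ⁻¹' {y₀}) _ hw :) : f w = y₀).trans hhc.symm
    obtain ⟨v, hvw, hvc⟩ := Scheme.exists_preimage_of_isPullback hpb w c hwy
    have hv : v ∈ connectedComponentIn (q ⁻¹' {c}) (s' c) := by
      refine (hmem c).ge ⟨?_, hvc⟩
      rw [Set.mem_preimage, hvw, hhc]
      exact hw
    have h1 := (specializes_iff_mem_closure.mpr (hCξ.subset hv).1).map p.continuous
    rw [hvw] at h1
    exact h1.mem_closure
  let x := s' c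
  have hqx : q x = c := hqs c
  have huniq : ∀ w, q w = q x → w ⤳ x → ξ' ⤳ w := fun w hw hwx =>
    specializes_iff_mem_closure.mpr (hCξ.subset (mem_component_of_specializes q (hw.trans hqx) hqx
      (hw.trans hqx) hwx specializes_rfl)).1
  have hredx : FBase.IsGeomReducedAt (q.fiberToSpecResidueField (q x)) (q.asFiber x) := by
    refine isGeomReducedAt_baseChange hpb x ?_
    rw [hps c, hhc]
    exact hred
  have hflat : (q.stalkMap x).hom.Flat := by
    refine S2561.result q x (fun z hz hzm => ?_) hredx inferInstance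
    have hzy : q (q.fiberι (q x) z) = q x := (q.range_fiberι (q x)).le ⟨z, rfl⟩
    have hzx : q.fiberι (q x) z ⤳ x := by
      have h1 := (specializes_iff_mem_closure.mpr hz).map (q.fiberι (q x)).continuous
      rwa [Scheme.Hom.fiberι_asFiber] at h1
    obtain ⟨z₂, hz₂⟩ : ξ' ∈ Set.range (q.fiberι (q x)) := (q.range_fiberι (q x)).ge (hqξ.trans hqx.symm)
    have hzeq : z₂ = z := hzm z₂ (Specializes.mem_closure
      ((q.fiberι (q x)).isEmbedding.specializes_iff.mp (by rw [hz₂]; exact huniq _ hzy hzx)))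
    rw [← hzeq, hz₂]
    exact OpenAt.isUnivOpenAt_of_isPullback hξopen hpb ξ' rfl
  obtain ⟨hTd, π, hπm, hπ0⟩ := exists_uniformizer_stalk A (q x) hqx
  haveI := hTd
  have hredF : _root_.IsReduced ((q.fiber (q x)).presheaf.stalk (q.asFiber x)) :=
    SecComp.Generize.isReduced_stalk_fiber f h (q x) (q.asFiber x) (g y₀)
      (by
        show p (q.fiberι (q x) (q.asFiber x)) = g y₀
        rw [Scheme.Hom.fiberι_asFiber, hps, hhc]) hred
  haveI : IsDomain ((pullback f h).presheaf.stalk x) :=
    isDomain_stalk q x hπm hπ0 hflat hredF ξ' (hqξ.trans hqx.symm) hξx huniq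
  let ζ := (pullback f h).fromSpecStalk x ⟨⊥, Ideal.isPrime_bot⟩
  have hζ : ∀ w, w ⤳ x → ζ ⤳ w := by
    intro w hw
    obtain ⟨Q, rfl⟩ : w ∈ Set.range ((pullback f h).fromSpecStalk x) := by
      rw [Scheme.range_fromSpecStalk]
      exact hw
    exact ((PrimeSpectrum.le_iff_specializes (⟨⊥, Ideal.isPrime_bot⟩ : PrimeSpectrum _) Q).mp bot_le).map
      ((pullback f h).fromSpecStalk x).continuous
  have hsη : s' η ⤳ x := (genericPoint_specializes c).map s'.continuous
  have hζsη : ζ ⤳ s' η := hζ _ hsη
  have hqζ : q ζ = η := by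
    have h1 : q ζ ⤳ η := by simpa only [hqs] using hζsη.map q.continuous
    exact (h1.antisymm (genericPoint_specializes _)).eq
  obtain ⟨c', hc'ξ, hqc', hc'm, hd⟩ := GUOpen.exists_gen_dim_of_isOpenAt q
    (GUOpen.isOpenAt_of_univ q (OpenAt.isUnivOpenAt_of_isPullback hξopen hpb ξ' rfl)) hξm'
    (show η ⤳ q ξ' from hqξ.symm ▸ genericPoint_specializes c)
  have hc'ζ : ζ = c' := hc'm ζ hqζ (hζ c' (hc'ξ.trans hξx))
  subst hc'ζ
  have hsub : closure {ζ} ∩ q ⁻¹' {η} ⊆ connectedComponentIn (q ⁻¹' {η}) (s' η) := fun w hw =>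
    mem_component_of_specializes q hqζ (hqs η) hw.2 hζsη (specializes_iff_mem_closure.mpr hw.1)
  have hdim := topDim_baseChange f g hg hpb hs' hs'g hgi
  have e1 := hdim c
  have e2 := hdim η
  rw [hhc] at e1
  rw [hη] at e2
  rw [← e1, ← e2, topDim_component_eq q (hqs c) (hirr c), hfdξ, ← GUOpen.fibreDimAt_of_max q hξm']
  refine hd.trans ((le_of_eq ?_).trans (Topology.IsInducing.topologicalKrullDim_le
    (Topology.IsEmbedding.inclusion hsub).isInducing))
  rw [← FibSemi.topDim_closure_inter_fibre_eq, hqζ]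

end Groth.Agent.SecDim
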