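import Mathlib
import Groth.Agent.SecDim.Open
import Groth.Agent.ConsPairLib.Loci
import Groth.Agent.FBase.BC
import Groth.Agent.S2561

/-!
EGA IV 15.6.6 (ii), flatness over a reduced base, for finitely presented morphisms.
-/

set_option autoImplicit false
set_option linter.style.haveILetI false
universe u
open CategoryTheory AlgebraicGeometry Limits Topology TopologicalSpace

noncomputable section

namespace Groth.Agent.SecDim

variable {X Y : Scheme.{u}}

/-- The Noetherian reduced models of a reduced ring. -/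
theorem exists_reduced_noetherian_limit (A : CommRingCat.{u}) [_root_.IsReduced A] :
    ∃ (I : Type u) (_ : SmallCategory I) (_ : IsCofiltered I) (D : I ⥤ Scheme.{u}) (c : Cone D)
      (_ : c.pt ≅ Spec A),
      Nonempty (IsLimit c) ∧ (∀ i, IsAffine (D.obj i)) ∧ (∀ i, IsNoetherian (D.obj i)) ∧
        ∀ i, IsReduced (D.obj i) := by
  letI : Algebra (ULift.{u} ℤ) A :=
    ((Int.castRingHom A).comp ULift.ringEquiv.toRingHom).toAlgebra
  classical
  refine ⟨(Finset A)ᵒᵖ, inferInstance, inferInstance, LimLib.fgDiagram (ULift.{u} ℤ) A,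
    LimLib.fgCone (ULift.{u} ℤ) A, Iso.refl _, ⟨LimLib.isLimitFgCone _ _⟩,
    fun i => inferInstance, fun i => ?_, fun i => ?_⟩
  · haveI : IsNoetherianRing (ULift.{u} ℤ) :=
      isNoetherianRing_of_ringEquiv ℤ ULift.ringEquiv.symm
    haveI : IsNoetherianRing (Algebra.adjoin (ULift.{u} ℤ) (i.unop : Set A)) :=
      isNoetherianRing_of_fg (Subalgebra.fg_adjoin_finset _)
    exact inferInstanceAs (IsNoetherian (Spec (CommRingCat.of _)))
  · haveI : _root_.IsReduced (Algebra.adjoin (ULift.{u} ℤ) (i.unop : Set A)) :=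
      isReduced_of_injective (Algebra.adjoin (ULift.{u} ℤ) (i.unop : Set A)).val Subtype.val_injective
    exact inferInstanceAs (IsReduced (Spec (CommRingCat.of _)))

/-- A common extension of two field extensions. -/
theorem exists_compositum_cat {κ κ' : CommRingCat.{u}} (hκ : IsField κ) (hκ' : IsField κ') (r : κ ⟶ κ')
    {K : Type u} [Field K] (al : κ ⟶ CommRingCat.of K) :
    ∃ (M : Type u) (_ : Field M) (φ : K →+* M) (ψ : κ' ⟶ CommRingCat.of M),
      al ≫ CommRingCat.ofHom φ = r ≫ ψ := by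
  letI := hκ.toField
  letI := hκ'.toField
  letI : Algebra κ κ' := r.hom.toAlgebra
  letI : Algebra κ K := al.hom.toAlgebra
  obtain ⟨M, _, φ, ψ, hφψ⟩ := FBase.BC.exists_compositum κ K κ'
  refine ⟨M, inferInstance, φ, CommRingCat.ofHom ψ, ?_⟩
  ext a
  exact congrArg (fun h : κ →+* M => h a) hφψ

/-- Geometric irreducibility of the section component descends. -/
theorem isIrreducible_descend {X' Y' : Scheme.{u}} (f : X ⟶ Y) (g : Y ⟶ X) (hg : g ≫ f = 𝟙 Y)
    {f' : X' ⟶ Y'} {g' : X' ⟶ X} {b : Y' ⟶ Y} {s' : Y' ⟶ X'} (hc : IsPullback g' f' f b)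
    (hs' : s' ≫ f' = 𝟙 Y') (hs'g : s' ≫ g' = b ≫ g) {y' : Y'}
    (hirr : ∀ (K : Type u) [Field K] [Algebra (IsLocalRing.ResidueField (Y'.presheaf.stalk y')) K],
        IsIrreducible ((FBase.bcπ (f'.fiberToSpecResidueField y') K ≫ f'.fiberι y').base ⁻¹'
          connectedComponentIn (f'.base ⁻¹' {y'}) (s'.base y')))
    (K : Type u) [Field K] [Algebra (IsLocalRing.ResidueField (Y.presheaf.stalk (b y'))) K] :
    IsIrreducible ((FBase.bcπ (f.fiberToSpecResidueField (b y')) K ≫ f.fiberι (b y')).base ⁻¹'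
      connectedComponentIn (f.base ⁻¹' {b y'}) (g.base (b y'))) := by
  let al : Y.residueField (b y') ⟶ CommRingCat.of K :=
    CommRingCat.ofHom (algebraMap (IsLocalRing.ResidueField (Y.presheaf.stalk (b y'))) K)
  obtain ⟨M, _, φ, ψ, hφψ⟩ := exists_compositum_cat (Field.toIsField _) (Field.toIsField _) (b.residueFieldMap y') al
  let ptK : Spec (CommRingCat.of K) ⟶ Y := Spec.map al ≫ Y.fromSpecResidueField (b y')
  let ptM : Spec (CommRingCat.of M) ⟶ Y' :=
    Spec.map ψ ≫ Y'.fromSpecResidueField y'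
  let m : Spec (CommRingCat.of M) ⟶ Spec (CommRingCat.of K) := Spec.map (CommRingCat.ofHom φ)
  have hm : ptM ≫ b = m ≫ ptK := by
    simp only [ptM, ptK, m, Category.assoc]
    rw [← b.SpecMap_residueFieldMap_fromSpecResidueField, ← Spec.map_comp_assoc, ← Spec.map_comp_assoc]
    rw [hφψ]
  let oK : ↥(Spec (CommRingCat.of K)) := IsLocalRing.closedPoint K
  let oM : ↥(Spec (CommRingCat.of M)) := IsLocalRing.closedPoint M
  have hptK : ptK oK = b y' := (Scheme.Hom.comp_apply _ _ _).trans (Scheme.fromSpecResidueField_apply _ _)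
  have hptM : ptM oM = y' := (Scheme.Hom.comp_apply _ _ _).trans (Scheme.fromSpecResidueField_apply _ _)
  -- over `M`
  let qM := pullback.snd f' ptM
  let sM : Spec (CommRingCat.of M) ⟶ pullback f' ptM :=
    pullback.lift (ptM ≫ s') (𝟙 _) (by rw [Category.assoc, hs', Category.comp_id, Category.id_comp])
  have hM := isIrreducible_baseChange_at f' s' hs' (IsPullback.of_hasPullback f' ptM)
    (pullback.lift_snd _ _ _ : sM ≫ qM = 𝟙 _) (pullback.lift_fst _ _ _) hirr hptM
  -- over `K`
  let fy := f.fiberToSpecResidueField (b y')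
  let a := pullback.fst fy (Spec.map al) ≫ f.fiberι (b y')
  let qK := pullback.snd fy (Spec.map al)
  have hK : IsPullback a qK f ptK :=
    (IsPullback.of_hasPullback fy (Spec.map al)).paste_horiz
      (IsPullback.of_hasPullback f (Y.fromSpecResidueField (b y')))
  let sK : Spec (CommRingCat.of K) ⟶ pullback fy (Spec.map al) :=
    hK.lift (ptK ≫ g) (𝟙 _) (by rw [Category.assoc, hg, Category.comp_id, Category.id_comp])
  have hsK : sK ≫ qK = 𝟙 _ := hK.lift_snd _ _ _
  have hsKa : sK ≫ a = ptK ≫ g := hK.lift_fst _ _ _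
  -- the comparison
  let w : pullback f' ptM ⟶ pullback fy (Spec.map al) :=
    hK.lift (pullback.fst f' ptM ≫ g') (qM ≫ m) (by
      rw [Category.assoc, hc.w, ← Category.assoc, pullback.condition, Category.assoc, hm, Category.assoc])
  have hw : IsPullback w qM qK m :=
    IsPullback.of_right (by
      rw [hK.lift_fst, ← hm]
      exact (IsPullback.of_hasPullback f' ptM).paste_horiz hc) (hK.lift_snd _ _ _) hK
  have hws : sM ≫ w = m ≫ sK := by
    apply hK.hom_ext
    · rw [Category.assoc, hK.lift_fst, pullback.lift_fst_assoc, Category.assoc, hs'g, Category.assoc m, hsKa,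
        ← Category.assoc m, ← hm]
      simp only [ptM, Category.assoc]
    · rw [Category.assoc, hK.lift_snd, pullback.lift_snd_assoc, Category.id_comp, Category.assoc, hsK,
        Category.comp_id]
  haveI : Surjective m := ⟨fun t => ⟨oM, Subsingleton.elim _ _⟩⟩
  haveI : Surjective w := MorphismProperty.of_isPullback hw.flip inferInstance
  have h1 := SecComp.mem_component_iff qK sK hsK qM w m hw sM (pullback.lift_snd _ _ _) hws oM
  have hfibM : qM ⁻¹' {oM} = Set.univ := Set.eq_univ_of_forall fun _ => Subsingleton.elim _ _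
  have hmo : m oM = oK := Subsingleton.elim _ _
  rw [hmo] at h1
  have hCK : IsIrreducible (connectedComponentIn (qK ⁻¹' {oK}) (sK oK)) := by
    rw [← Set.image_preimage_eq (connectedComponentIn (qK ⁻¹' {oK}) (sK oK)) w.surjective]
    refine IsIrreducible.image ?_ _ w.continuous.continuousOn
    rw [h1, hfibM, Set.inter_univ] at hM
    exact hM
  have h2 := SecComp.mem_component_iff f g hg qK a ptK hK sK hsK hsKa oK
  have hfibK : qK ⁻¹' {oK} = Set.univ := Set.eq_univ_of_forall fun _ => Subsingleton.elim _ _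
  rw [h2, hfibK, Set.inter_univ, hptK] at hCK
  exact hCK

/-- Geometric irreducibility of the section component is stable under base change. -/
theorem isIrreducible_ascend {X' Y' : Scheme.{u}} (f : X ⟶ Y) (g : Y ⟶ X) (hg : g ≫ f = 𝟙 Y)
    {f' : X' ⟶ Y'} {g' : X' ⟶ X} {b : Y' ⟶ Y} {s' : Y' ⟶ X'} (hc : IsPullback g' f' f b)
    (hs' : s' ≫ f' = 𝟙 Y') (hs'g : s' ≫ g' = b ≫ g) {y : Y} {y' : Y'} (hy' : b y' = y)
    (hirr : ∀ (K : Type u) [Field K] [Algebra (IsLocalRing.ResidueField (Y.presheaf.stalk y)) K],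
        IsIrreducible ((FBase.bcπ (f.fiberToSpecResidueField y) K ≫ f.fiberι y).base ⁻¹'
          connectedComponentIn (f.base ⁻¹' {y}) (g.base y)))
    (K : Type u) [Field K] [Algebra (IsLocalRing.ResidueField (Y'.presheaf.stalk y')) K] :
    IsIrreducible ((FBase.bcπ (f'.fiberToSpecResidueField y') K ≫ f'.fiberι y').base ⁻¹'
      connectedComponentIn (f'.base ⁻¹' {y'}) (s'.base y')) := by
  let al : Y'.residueField y' ⟶ CommRingCat.of K :=
    CommRingCat.ofHom (algebraMap (IsLocalRing.ResidueField (Y'.presheaf.stalk y')) K)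
  let ptK : Spec (CommRingCat.of K) ⟶ Y' := Spec.map al ≫ Y'.fromSpecResidueField y'
  let oK : ↥(Spec (CommRingCat.of K)) := IsLocalRing.closedPoint K
  have hptK : ptK oK = y' := (Scheme.Hom.comp_apply _ _ _).trans (Scheme.fromSpecResidueField_apply _ _)
  let fy := f'.fiberToSpecResidueField y'
  let a := pullback.fst fy (Spec.map al) ≫ f'.fiberι y'
  let qK := pullback.snd fy (Spec.map al)
  have hK : IsPullback a qK f' ptK :=
    (IsPullback.of_hasPullback fy (Spec.map al)).paste_horiz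
      (IsPullback.of_hasPullback f' (Y'.fromSpecResidueField y'))
  let sK : Spec (CommRingCat.of K) ⟶ pullback fy (Spec.map al) :=
    hK.lift (ptK ≫ s') (𝟙 _) (by rw [Category.assoc, hs', Category.comp_id, Category.id_comp])
  have hsK : sK ≫ qK = 𝟙 _ := hK.lift_snd _ _ _
  have hsKa : sK ≫ a = ptK ≫ s' := hK.lift_fst _ _ _
  have hCK := isIrreducible_baseChange_at f g hg (hK.paste_horiz hc) hsK
    (by rw [← Category.assoc, hsKa, Category.assoc, hs'g, ← Category.assoc]) hirr
    (show (ptK ≫ b) oK = y by rw [Scheme.Hom.comp_apply, hptK, hy'])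
  have h2 := SecComp.mem_component_iff f' s' hs' qK a ptK hK sK hsK hsKa oK
  have hfibK : qK ⁻¹' {oK} = Set.univ := Set.eq_univ_of_forall fun _ => Subsingleton.elim _ _
  rw [h2, hfibK, Set.inter_univ, hptK] at hCK
  exact hCK

/-- Flatness at a point is read on an open piece. -/
theorem flat_stalkMap_of_open_comp {U X Y : Scheme.{u}} (j : U ⟶ X) [IsOpenImmersion j] (f : X ⟶ Y) (x : U)
    (h : ((j ≫ f).stalkMap x).hom.Flat) : (f.stalkMap (j x)).hom.Flat := by
  rw [Scheme.Hom.stalkMap_comp] at h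
  exact (RingHom.Flat.respectsIso.cancel_right_isIso _ _).mp h

/-- EGA IV 15.6.6 (ii): flatness over a reduced limit of Noetherian affine schemes. -/
theorem flat_stalkMap_of_limit {I : Type u} [SmallCategory I] [IsCofiltered I]
    {D : I ⥤ Scheme.{u}} {c : Cone D} (hc : IsLimit c) [∀ i, IsAffine (D.obj i)]
    [∀ i, IsNoetherian (D.obj i)] (hDred : ∀ i, IsReduced (D.obj i)) [IsAffine c.pt]
    (f : X ⟶ c.pt) (s : c.pt ⟶ X) (hs : s ≫ f = 𝟙 c.pt)
    [LocallyOfFinitePresentation f] [QuasiCompact f] [QuasiSeparated f] {x : X}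
    (hirr : ∀ (K : Type u) [Field K] [Algebra (IsLocalRing.ResidueField (c.pt.presheaf.stalk (f x))) K],
        IsIrreducible ((FBase.bcπ (f.fiberToSpecResidueField (f x)) K ≫ f.fiberι (f x)).base ⁻¹'
          connectedComponentIn (f.base ⁻¹' {f x}) (s.base (f x))))
    (hxC : x ∈ connectedComponentIn (f ⁻¹' {f x}) (s (f x)))
    (hdim : ∀ t, FlatMor.fibreDimAt f (s t) = FlatMor.fibreDimAt f (s (f x)))
    (hred : x ∈ GRLocus.locus f) : (f.stalkMap x).hom.Flat := by
  haveI := QuasiCompact.compactSpace_of_compactSpace f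
  haveI := quasiSeparatedSpace_of_quasiSeparated f
  obtain ⟨i₀, X₁, u₁, g₁, a₁, b₁, c₁, s₁⟩ := LimLib.hasModel hc f
  haveI : ∀ {i j : I} (a : i ⟶ j), IsAffineHom (D.map a) := fun {i j} a => inferInstance
  haveI := b₁
  haveI := a₁
  haveI := c₁
  haveI : IsIso (𝟙 c.pt) := IsIso.id c.pt
  have s₀ : IsPullback (c.π.app i₀) (𝟙 c.pt) (𝟙 (D.obj i₀)) (c.π.app i₀) :=
    IsPullback.of_vert_isIso ⟨(Category.id_comp _).trans (Category.comp_id _).symm |>.symm⟩
  obtain ⟨j, gj, qXj, qYj, hgj, hYj, hsq⟩ :=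
    ConsPairLib.exists_stage_hom D c hc i₀ (𝟙 (D.obj i₀)) u₁ s₀ s₁ s hs
  haveI := quasiCompact_of_compactSpace u₁
  let uj := pullback.snd (𝟙 (D.obj i₀)) (D.map j.hom)
  let vj := pullback.snd u₁ (D.map j.hom)
  haveI : IsIso uj := inferInstance
  let σ : D.obj j.left ⟶ pullback u₁ (D.map j.hom) := inv uj ≫ gj
  have hσ : σ ≫ vj = 𝟙 _ := by rw [Category.assoc, hgj, IsIso.inv_hom_id]
  have hq : qXj = c.π.app j.left ≫ inv uj := by
    rw [IsIso.eq_comp_inv]
    show qXj ≫ pullback.snd (𝟙 (D.obj i₀)) (D.map j.hom) = _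
    rw [← hgj, ← Category.assoc, hsq.w, Category.assoc, hYj.w, ← Category.assoc, hs]
    exact Category.id_comp _
  have hσs : s ≫ qYj = c.π.app j.left ≫ σ := by
    rw [← hsq.w, hq, Category.assoc]
  haveI : LocallyOfFiniteType vj := inferInstance
  obtain ⟨n₁, n₂, -, -, hn⟩ := FibSemi.fibreDimAt_eq_add f (s (f x))
  let n := n₁ + n₂
  have hdimj : ∀ t, FlatMor.fibreDimAt vj (σ (c.π.app j.left t)) = (n : WithBot ℕ∞) := fun t => by
    rw [← Scheme.Hom.comp_apply, ← hσs, Scheme.Hom.comp_apply, ← AlgSpD.fibreDimAt_of_isPullback vj hYj,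
      hdim t, hn]
  -- where the dimension drops, empty at a higher stage
  let U : (D.obj j.left).Opens :=
    ⟨{t | ∀ m : ℕ, m + 1 = n → FlatMor.fibreDimAt vj (σ t) ≤ (m : WithBot ℕ∞)} ∩ {_t | n ≠ 0}, by
      rcases Nat.eq_zero_or_pos n with h0 | h0
      · simp [h0]
      · have h2 : {t | ∀ m : ℕ, m + 1 = n → FlatMor.fibreDimAt vj (σ t) ≤ (m : WithBot ℕ∞)} =
            σ ⁻¹' {z | FlatMor.fibreDimAt vj z ≤ ((n - 1 : ℕ) : WithBot ℕ∞)} := by
          ext t
          exact ⟨fun h => h (n - 1) (by omega), fun h m hm => by rwa [show m = n - 1 by omega]⟩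
        rw [h2]
        exact ((FlatMisc.FibreDimScheme.isOpen_fibreDimAt_le (f := vj) (n - 1)).preimage σ.continuous).inter
          isOpen_const⟩
  obtain ⟨k, ψ, hk⟩ := exists_map_preimage_le_map_preimage D c hc (i := j.left) (U := U) (V := ⊥)
    (NoetherianSpace.isCompact _) (fun t ht => by
      obtain ⟨h1, h2⟩ := ht
      have h3 := h1 (n - 1) (by have : n ≠ 0 := h2; omega)
      rw [hdimj] at h3
      have h4 : n ≤ n - 1 := ENat.natCast_le_natCast.mp (WithBot.coe_le_coe.mp h3)
      have : n ≠ 0 := h2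
      omega)
  let vk := pullback.snd vj (D.map ψ)
  let σk : D.obj k ⟶ pullback vj (D.map ψ) :=
    pullback.lift (D.map ψ ≫ σ) (𝟙 _) (by rw [Category.assoc, hσ, Category.comp_id, Category.id_comp])
  have hσk : σk ≫ vk = 𝟙 _ := pullback.lift_snd _ _ _
  let gk : X ⟶ pullback vj (D.map ψ) := pullback.lift qYj (f ≫ c.π.app k)
    (by rw [hYj.w, Category.assoc, c.w])
  have sqk : IsPullback gk f vk (c.π.app k) :=
    IsPullback.of_right (by simpa only [gk, pullback.lift_fst, c.w] using hYj) (pullback.lift_snd _ _ _)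
      (IsPullback.of_hasPullback vj (D.map ψ))
  have hsk : s ≫ gk = c.π.app k ≫ σk := by
    apply pullback.hom_ext
    · rw [Category.assoc, pullback.lift_fst, Category.assoc, pullback.lift_fst, ← Category.assoc (c.π.app k),
        c.w, hσs]
    · rw [Category.assoc, pullback.lift_snd, Category.assoc, pullback.lift_snd, ← Category.assoc, hs,
        Category.id_comp, Category.comp_id]
  haveI : LocallyOfFiniteType vk := MorphismProperty.pullback_snd (P := @LocallyOfFiniteType) _ _ inferInstance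
  haveI : LocallyOfFinitePresentation vk := GRLocus.locallyOfFinitePresentation_of_lft vk
  let y := c.π.app k (f x)
  let z := gk x
  have hzy : vk z = y := by
    rw [← Scheme.Hom.comp_apply, sqk.w, Scheme.Hom.comp_apply]
  have hσky : σk y = gk (s (f x)) := by
    rw [← Scheme.Hom.comp_apply, ← hsk, Scheme.Hom.comp_apply]
  have hirrk := fun K [Field K] [Algebra (IsLocalRing.ResidueField ((D.obj k).presheaf.stalk y)) K] =>
    isIrreducible_descend vk σk hσk sqk hs hsk hirr K
  have hzC : z ∈ connectedComponentIn (vk ⁻¹' {y}) (σk y) := by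
    have h := (SecComp.mem_component_iff vk σk hσk f gk (c.π.app k) sqk s hs hsk (f x)).le hxC
    exact h.1
  have hdimk : ∀ t, t ⤳ y → FlatMor.fibreDimAt vk (σk y) ≤ FlatMor.fibreDimAt vk (σk t) := by
    intro t _
    rw [hσky, ← AlgSpD.fibreDimAt_of_isPullback vk sqk, hn,
      AlgSpD.fibreDimAt_of_isPullback vj (IsPullback.of_hasPullback vj (D.map ψ)) (σk t),
      ← Scheme.Hom.comp_apply σk, show σk ≫ pullback.fst vj (D.map ψ) = D.map ψ ≫ σ from pullback.lift_fst _ _ _,
      Scheme.Hom.comp_apply]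
    by_contra hlt
    obtain ⟨m₁, m₂, -, -, hm⟩ := FibSemi.fibreDimAt_eq_add vj (σ (D.map ψ t))
    have hlt' : m₁ + m₂ < n := by
      by_contra hge
      exact hlt (hm ▸ WithBot.coe_le_coe.mpr (ENat.natCast_le_natCast.mpr (not_lt.mp hge)))
    have hmem : t ∈ D.map ψ ⁻¹ᵁ U := by
      refine ⟨fun m hmn => ?_, fun h0 => ?_⟩
      · rw [hm]
        exact WithBot.coe_le_coe.mpr (ENat.natCast_le_natCast.mpr (by omega))
      · have : n = 0 := h0
        omega
    exact (hk hmem : t ∈ D.map ψ ⁻¹ᵁ (⊥ : (D.obj j.left).Opens))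
  have hopen := isUnivOpenAt_of_fibreDimAt_const vk σk hσk hirrk hdimk
  haveI := hDred k
  have hflat : (vk.stalkMap z).hom.Flat := by
    refine S2561.result vk z (fun w hw _ => ?_) (SecComp.isGeomReducedAt_descend sqk x hred) inferInstance
    have hwy : vk (vk.fiberι (vk z) w) = vk z := (vk.range_fiberι (vk z)).le ⟨w, rfl⟩
    have hwz : vk.fiberι (vk z) w ⤳ z := by
      have h := (specializes_iff_mem_closure.mpr hw).map (vk.fiberι (vk z)).continuous
      rwa [Scheme.Hom.fiberι_asFiber] at h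
    refine hopen _ ?_
    rw [connectedComponentIn_eq hzC]
    exact mem_component_of_specializes vk (hwy.trans hzy) hzy (hwy.trans hzy) hwz specializes_rfl
  let W : (pullback vj (D.map ψ)).Opens := ⟨_, FlatOpen.Scheme.isOpen_stalkMap_flat vk⟩
  haveI : Flat (W.ι ≫ vk) := by
    rw [Flat.iff_flat_stalkMap]
    intro p
    rw [Scheme.Hom.stalkMap_comp]
    exact RingHom.Flat.comp (p.2 : (vk.stalkMap (W.ι p)).hom.Flat) (Flat.stalkMap W.ι p)
  haveI : Flat ((gk ⁻¹ᵁ W).ι ≫ f) :=
    MorphismProperty.of_isPullback (P := @Flat) ((isPullback_morphismRestrict gk W).paste_vert sqk)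
      inferInstance
  let x₁ : ↥((gk ⁻¹ᵁ W) : Scheme.{u}) := ⟨x, hflat⟩
  exact flat_stalkMap_of_open_comp (gk ⁻¹ᵁ W).ι f x₁ (Flat.stalkMap ((gk ⁻¹ᵁ W).ι ≫ f) x₁)

end Groth.Agent.SecDim
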