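import Mathlib
import Groth.Agent.SecDim.General
import Groth.Agent.FlatMisc.FlatFibreDimGen
import Groth.Agent.GRLocus.Valuation

/-!
Over a valuation ring, a fibre piece under a dominant point is at most as big as the generic piece.
-/

set_option autoImplicit false
set_option linter.style.haveILetI false
universe u
open CategoryTheory AlgebraicGeometry IsLocalRing Topology

noncomputable section

namespace Groth.Agent.SecDim

theorem krullDim_le_generic {R : Type u} [CommRing R] [IsDomain R] [ValuationRing R]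
    {P : Scheme.{u}} (q : P ⟶ Spec (CommRingCat.of R)) [LocallyOfFiniteType q] {c ξ : P}
    (hc : q c = genericPoint (Spec (CommRingCat.of R))) (hcξ : c ⤳ ξ) :
    Order.krullDim {z : P | q z = q ξ ∧ ξ ⤳ z} ≤ Order.krullDim {z : P | q z = q c ∧ c ⤳ z} := by
  classical
  refine iSup_le fun l => ?_
  obtain ⟨W, hW, hhW, -⟩ := exists_isAffineOpen_mem_and_subset (x := l.head.1) (U := ⊤) trivial
  have hlW : ∀ i, (l i).1 ∈ W := fun i =>
    (show (l i).1 ⤳ l.head.1 from l.monotone (Fin.zero_le i)).mem_open W.2 hhW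
  have hcW : c ∈ W := (hcξ.trans l.head.2.2).mem_open W.2 hhW
  let T := Spec (CommRingCat.of R)
  let V : T.Opens := ⊤
  have hV : IsAffineOpen V := isAffineOpen_top T
  have e : W ≤ q ⁻¹ᵁ V := fun _ _ => trivial
  -- the ring of functions of the base
  let ι : R →+* Γ(T, V) := (Scheme.ΓSpecIso (CommRingCat.of R)).inv.hom
  have hι : Function.Bijective ι := (Scheme.ΓSpecIso (CommRingCat.of R)).symm.commRingCatIsoToRingEquiv.bijective
  let φ : R →+* Γ(P, W) := (q.appLE V W e).hom.comp ι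
  letI := φ.toAlgebra
  have hft : φ.FiniteType := (q.finiteType_appLE hV hW e).comp (RingHom.FiniteType.of_surjective ι hι.2)
  haveI : Algebra.FiniteType R Γ(P, W) := hft
  have hfs : hV.fromSpec = Spec.map (Scheme.ΓSpecIso (CommRingCat.of R)).inv :=
    (IsAffineOpen.fromSpec_top (X := Spec (CommRingCat.of R))).trans (Scheme.isoSpec_Spec_inv _)
  -- images of points of the chart
  have hqP : ∀ Q : PrimeSpectrum Γ(P, W), (q (hW.fromSpec Q) : PrimeSpectrum R).asIdeal = Q.asIdeal.comap φ := by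
    intro Q
    have h1 : q (hW.fromSpec Q) = hV.fromSpec (PrimeSpectrum.comap (q.appLE V W e).hom Q) :=
      (congrArg (fun m : Spec Γ(P, W) ⟶ T => m Q) (IsAffineOpen.SpecMap_appLE_fromSpec q hV hW e)).symm
    rw [h1, hfs]
    rfl
  have hle : ∀ {a b : P} (ha : a ∈ W) (hb : b ∈ W), a ⤳ b →
      (hW.primeIdealOf ⟨a, ha⟩).asIdeal ≤ (hW.primeIdealOf ⟨b, hb⟩).asIdeal := by
    intro a b ha hb hab
    refine (PrimeSpectrum.le_iff_specializes (hW.primeIdealOf ⟨a, ha⟩) (hW.primeIdealOf ⟨b, hb⟩)).mpr ?_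
    refine hW.fromSpec.isOpenEmbedding.isEmbedding.specializes_iff.mp ?_
    show hW.fromSpec (hW.primeIdealOf ⟨a, ha⟩) ⤳ hW.fromSpec (hW.primeIdealOf ⟨b, hb⟩)
    rw [hW.fromSpec_primeIdealOf, hW.fromSpec_primeIdealOf]
    exact hab
  let Qc := (hW.primeIdealOf ⟨c, hcW⟩).asIdeal
  have hQc : Qc.comap φ = ⊥ := by
    rw [← hqP (hW.primeIdealOf ⟨c, hcW⟩), hW.fromSpec_primeIdealOf, hc, genericPoint_eq_bot_of_affine]
    rfl
  let S := Γ(P, W) ⧸ Qc
  let π := Ideal.Quotient.mk Qc
  have hinj : Function.Injective (algebraMap R S) := by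
    rw [RingHom.injective_iff_ker_eq_bot]
    show RingHom.ker (π.comp φ) = ⊥
    rw [← RingHom.comap_ker, Ideal.mk_ker, hQc]
  haveI : Module.IsTorsionFree R S := by
    haveI : FaithfulSMul R S := (faithfulSMul_iff_algebraMap_injective R S).mpr hinj
    infer_instance
  haveI : Module.Flat R S := (Module.Flat.flat_iff_torsion_eq_bot_of_isBezout (R := R) (M := S)).mpr
    ((Submodule.isTorsionFree_iff_torsion_eq_bot (R := R) (M := S)).mp inferInstance)
  let m : PrimeSpectrum R := q ξ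
  let o : PrimeSpectrum R := ⟨⊥, Ideal.isPrime_bot⟩
  have hQl : ∀ i, Qc ≤ (hW.primeIdealOf ⟨(l i).1, hlW i⟩).asIdeal :=
    fun i => hle hcW (hlW i) (hcξ.trans (l i).2.2)
  let toS : Fin (l.length + 1) → PrimeSpectrum S := fun i =>
    ⟨(hW.primeIdealOf ⟨(l i).1, hlW i⟩).asIdeal.map π,
      Ideal.map_isPrime_of_surjective Ideal.Quotient.mk_surjective (by rw [Ideal.mk_ker]; exact hQl i)⟩
  have hback : ∀ i, (toS i).asIdeal.comap π = (hW.primeIdealOf ⟨(l i).1, hlW i⟩).asIdeal := fun i => by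
    show ((hW.primeIdealOf ⟨(l i).1, hlW i⟩).asIdeal.map π).comap π = _
    rw [Ideal.comap_map_of_surjective π Ideal.Quotient.mk_surjective, ← RingHom.ker_eq_comap_bot,
      Ideal.mk_ker, sup_eq_left.mpr (hQl i)]
  let l₁ : LTSeries (PrimeSpectrum S) := LTSeries.mk l.length (fun i => toS i.rev) fun i j hij => by
    have hlt := l.strictMono (Fin.rev_lt_rev.mpr hij)
    have hsp : (l i.rev).1 ⤳ (l j.rev).1 := hlt.le
    refine lt_of_le_of_ne (Ideal.map_mono (hle (hlW _) (hlW _) hsp)) fun he => ?_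
    have he' := congrArg (fun z : PrimeSpectrum S => z.asIdeal.comap π) he
    simp only [hback] at he'
    have h1 : hW.primeIdealOf ⟨(l i.rev).1, hlW _⟩ = hW.primeIdealOf ⟨(l j.rev).1, hlW _⟩ := PrimeSpectrum.ext he'
    have h2 := congrArg hW.fromSpec h1
    rw [hW.fromSpec_primeIdealOf, hW.fromSpec_primeIdealOf] at h2
    exact hlt.not_ge (show (l j.rev).1 ⤳ (l i.rev).1 from specializes_of_eq h2.symm)
  have hcomap : ∀ Q : PrimeSpectrum S, Q.comap (algebraMap R S) =
      (q (hW.fromSpec ⟨Q.asIdeal.comap π, Ideal.IsPrime.comap π⟩) : PrimeSpectrum R) := fun Q => by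
    refine PrimeSpectrum.ext ?_
    rw [hqP ⟨Q.asIdeal.comap π, Ideal.IsPrime.comap π⟩]
    rfl
  have hl₁ : ∀ i, (l₁ i).comap (algebraMap R S) = m := fun i => by
    show (toS i.rev).comap (algebraMap R S) = m
    rw [hcomap]
    haveI := (toS i.rev).isPrime
    have h1 : (⟨(toS i.rev).asIdeal.comap π, Ideal.IsPrime.comap π⟩ : PrimeSpectrum Γ(P, W)) =
        hW.primeIdealOf ⟨(l i.rev).1, hlW _⟩ := PrimeSpectrum.ext (hback _)
    rw [h1, hW.fromSpec_primeIdealOf]
    exact (l i.rev).2.1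
  obtain ⟨a, ha⟩ := DimSpec.exists_indep_of_chain m.asIdeal l₁ hl₁
  obtain ⟨q', -, hq', ha'⟩ := FlatMisc.FlatFibreDimGen.indep_of_flat m.asIdeal o.asIdeal bot_le
    l₁.head.asIdeal (congrArg PrimeSpectrum.asIdeal (hl₁ 0)) a ha
  obtain ⟨L, hL, hL'⟩ := DimSpec.exists_chain_of_indep o.asIdeal q' hq' a ha'
  let pt : Fin (L.length + 1) → {z : P | q z = q c ∧ c ⤳ z} := fun i =>
    ⟨hW.fromSpec ⟨(L i).asIdeal.comap π, Ideal.IsPrime.comap π⟩, by
      refine ⟨?_, ?_⟩
      · rw [hc, genericPoint_eq_bot_of_affine]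
        exact ((hcomap (L i)).symm.trans (hL' i).2).trans (PrimeSpectrum.ext rfl)
      · have hQle : Qc ≤ (L i).asIdeal.comap π := by
          intro b hb
          show π b ∈ (L i).asIdeal
          rw [show π b = 0 from Ideal.Quotient.eq_zero_iff_mem.mpr hb]
          exact zero_mem _
        have h5 := ((PrimeSpectrum.le_iff_specializes (hW.primeIdealOf ⟨c, hcW⟩)
          ⟨(L i).asIdeal.comap π, Ideal.IsPrime.comap π⟩).mp hQle).map hW.fromSpec.continuous
        exact (specializes_of_eq (hW.fromSpec_primeIdealOf ⟨c, hcW⟩).symm).trans h5⟩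
  refine le_trans (le_of_eq (congrArg (fun n : ℕ => (n : WithBot ℕ∞)) hL.symm))
    (Order.LTSeries.length_le_krullDim (LTSeries.mk L.length (fun i => pt i.rev) fun i j hij => ?_))
  have hlt := L.strictMono (Fin.rev_lt_rev.mpr hij)
  refine ⟨((PrimeSpectrum.le_iff_specializes _ _).mp (Ideal.comap_mono hlt.le)).map hW.fromSpec.continuous,
    fun h => hlt.not_ge ?_⟩
  have h1 : (L i.rev).asIdeal.comap π ≤ (L j.rev).asIdeal.comap π :=
    (PrimeSpectrum.le_iff_specializes ⟨(L i.rev).asIdeal.comap π, Ideal.IsPrime.comap π⟩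
      ⟨(L j.rev).asIdeal.comap π, Ideal.IsPrime.comap π⟩).mpr
      (hW.fromSpec.isOpenEmbedding.isEmbedding.specializes_iff.mp h)
  intro b hb
  obtain ⟨b, rfl⟩ := Ideal.Quotient.mk_surjective b
  exact h1 hb

end Groth.Agent.SecDim
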