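import Mathlib
import Groth.Agent.SecDim.ValDim
import Groth.Agent.SecDim.Alpha
import Groth.Agent.SecDim.FlatFP
import Groth.Agent.SecDim.Open
import Groth.Agent.ConsPairLib.Loci
import Groth.Agent.EtaPtLib.Basic

/-!
Lower bounds for fibre dimensions at a section along generizations (EGA IV 15.6.6 (iii)).
-/

set_option autoImplicit false
set_option linter.style.haveILetI false
universe u
open CategoryTheory AlgebraicGeometry Limits Topology TopologicalSpace

noncomputable section

namespace Groth.Agent.SecDim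

variable {X Y : Scheme.{u}}

/-- The locus of large fibre dimension is locally constructible. -/
theorem isLocallyConstructible_fibreDim_ge (f : X ⟶ Y) [LocallyOfFinitePresentation f] [QuasiCompact f]
    [QuasiSeparated f] (n : ℕ) :
    IsLocallyConstructible {x : X | (n : WithBot ℕ∞) ≤ FlatMor.fibreDimAt f x} := by
  refine IsLocallyConstructible.of_isOpenCover
    (U := fun V : Y.affineOpens => f ⁻¹ᵁ (V : Y.Opens))
    (TopologicalSpace.IsOpenCover.comap (iSup_affineOpens_eq_top Y) _) fun V => ?_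
  obtain ⟨I, _, _, D, c, e, ⟨hc⟩, _, _⟩ := ConsPairLib.exists_noetherian_limit Γ(Y, V)
  haveI : IsAffine c.pt := .of_isIso e.hom
  let i : c.pt ≅ ((V : Y.Opens) : Scheme.{u}) := e ≪≫ V.2.isoSpec.symm
  let f' : ((f ⁻¹ᵁ (V : Y.Opens)) : Scheme.{u}) ⟶ c.pt := (f ∣_ (V : Y.Opens)) ≫ i.inv
  have hc' : IsPullback (f ⁻¹ᵁ (V : Y.Opens)).ι f' f (i.hom ≫ (V : Y.Opens).ι) :=
    (isPullback_morphismRestrict f (V : Y.Opens)).flip.of_iso (Iso.refl _) (Iso.refl _) i.symm
      (Iso.refl _) (by simp) (by simp [f']) (by simp) (by simp)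
  haveI : LocallyOfFinitePresentation f' := MorphismProperty.of_isPullback hc' ‹_›
  haveI : QuasiCompact f' := MorphismProperty.of_isPullback hc' ‹_›
  haveI : QuasiSeparated f' := MorphismProperty.of_isPullback hc' ‹_›
  haveI := QuasiCompact.compactSpace_of_compactSpace f'
  haveI := quasiSeparatedSpace_of_quasiSeparated f'
  obtain ⟨i₀, X₀, u₀, g₀, a₀, b₀, c₀, s₀⟩ := LimLib.hasModel hc f'
  haveI := a₀
  haveI := b₀
  haveI := c₀
  haveI : QuasiCompact u₀ := quasiCompact_of_compactSpace u₀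
  haveI : LocallyOfFiniteType u₀ := inferInstance
  haveI : IsLocallyNoetherian X₀ := LocallyOfFiniteType.isLocallyNoetherian u₀
  haveI : IsNoetherian X₀ := {}
  have hclosed : IsConstructible {x : X₀ | (n : WithBot ℕ∞) ≤ FlatMor.fibreDimAt u₀ x} := by
    rcases Nat.eq_zero_or_pos n with h0 | h0
    · subst h0
      have huniv : {x : X₀ | ((0 : ℕ) : WithBot ℕ∞) ≤ FlatMor.fibreDimAt u₀ x} = Set.univ :=
        Set.eq_univ_of_forall fun x => by
          obtain ⟨a, b, -, -, h⟩ := FibSemi.fibreDimAt_eq_add u₀ x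
          show ((0 : ℕ) : WithBot ℕ∞) ≤ FlatMor.fibreDimAt u₀ x
          rw [h]
          exact WithBot.coe_le_coe.mpr (ENat.natCast_le_natCast.mpr (Nat.zero_le _))
      rw [huniv]
      exact IsConstructible.univ
    · have hcompl : {x : X₀ | (n : WithBot ℕ∞) ≤ FlatMor.fibreDimAt u₀ x} =
          {x : X₀ | FlatMor.fibreDimAt u₀ x ≤ ((n - 1 : ℕ) : WithBot ℕ∞)}ᶜ := by
        ext x
        obtain ⟨a, b, -, -, h⟩ := FibSemi.fibreDimAt_eq_add u₀ x
        show (n : WithBot ℕ∞) ≤ FlatMor.fibreDimAt u₀ x ↔ ¬ FlatMor.fibreDimAt u₀ x ≤ _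
        rw [h]
        constructor
        · intro h1 h2
          have h3 : n ≤ n - 1 := ENat.natCast_le_natCast.mp (WithBot.coe_le_coe.mp (h1.trans h2))
          omega
        · intro h1
          refine WithBot.coe_le_coe.mpr (ENat.natCast_le_natCast.mpr ?_)
          by_contra h2
          exact h1 (WithBot.coe_le_coe.mpr (ENat.natCast_le_natCast.mpr (by omega)))
      rw [hcompl]
      exact (ConstrLib.isConstructible_of_isOpen (FlatMisc.FibreDimScheme.isOpen_fibreDimAt_le (f := u₀) (n - 1))).compl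
  have heq : (f ⁻¹ᵁ (V : Y.Opens)).ι ⁻¹' {x : X | (n : WithBot ℕ∞) ≤ FlatMor.fibreDimAt f x} =
      g₀ ⁻¹' {x : X₀ | (n : WithBot ℕ∞) ≤ FlatMor.fibreDimAt u₀ x} := by
    ext z
    show _ ≤ FlatMor.fibreDimAt f _ ↔ _ ≤ FlatMor.fibreDimAt u₀ _
    rw [← AlgSpD.fibreDimAt_of_isPullback f hc' z, ← AlgSpD.fibreDimAt_of_isPullback u₀ s₀ z]
  show IsLocallyConstructible ((f ⁻¹ᵁ (V : Y.Opens)).ι ⁻¹' _)
  rw [heq]
  exact ProConsPre.isLocallyConstructible_preimage g₀ hclosed.isLocallyConstructible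

/-- Criterion (α) over a base whose local ring is Noetherian. -/
theorem topDim_le_of_geomReduced_stalk (f : X ⟶ Y) [LocallyOfFiniteType f] (g : Y ⟶ X) (hg : g ≫ f = 𝟙 Y)
    (hgi : ∀ (y : Y) (K : Type u) [Field K] [Algebra (IsLocalRing.ResidueField (Y.presheaf.stalk y)) K],
        IsIrreducible ((FBase.bcπ (f.fiberToSpecResidueField y) K ≫ f.fiberι y).base ⁻¹'
          connectedComponentIn (f.base ⁻¹' {y}) (g.base y)))
    {y₀ y' : Y} [IsNoetherianRing (Y.presheaf.stalk y₀)] (hy : y' ⤳ y₀)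
    (hopen : ∀ ξ ∈ connectedComponentIn (f.base ⁻¹' {y₀}) (g.base y₀),
      connectedComponentIn (f.base ⁻¹' {y₀}) (g.base y₀) ⊆ closure {ξ} → EGA43.IsUnivOpenAt f ξ)
    (hred : g y₀ ∈ GRLocus.locus f) :
    FlatMor.fibreDimAt f (g y₀) ≤ FlatMor.fibreDimAt f (g y') := by
  let T := Spec (Y.presheaf.stalk y₀)
  let b := Y.fromSpecStalk y₀
  let P := pullback f b
  let q := pullback.snd f b
  let s' : T ⟶ P :=
    pullback.lift (b ≫ g) (𝟙 _) (by rw [Category.assoc, hg, Category.comp_id, Category.id_comp])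
  have hs' : s' ≫ q = 𝟙 _ := pullback.lift_snd _ _ _
  have hs'g : s' ≫ pullback.fst f b = b ≫ g := pullback.lift_fst _ _ _
  have hpb : IsPullback (pullback.fst f b) q f b := IsPullback.of_hasPullback f b
  haveI : LocallyOfFiniteType q := MorphismProperty.of_isPullback hpb inferInstance
  haveI : IsLocallyNoetherian T := inferInstance
  have hgy : ∀ y, f (g y) = y := fun y => by rw [← Scheme.Hom.comp_apply, hg]; rfl
  have hqs : ∀ t, q (s' t) = t := fun t => by rw [← Scheme.Hom.comp_apply, hs']; rfl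
  have hps : ∀ t, pullback.fst f b (s' t) = g (b t) := fun t => by
    rw [← Scheme.Hom.comp_apply, hs'g, Scheme.Hom.comp_apply]
  let c : ↥T := IsLocalRing.closedPoint _
  have hbc : b c = y₀ := Scheme.fromSpecStalk_closedPoint
  obtain ⟨η, hη⟩ : y' ∈ Set.range b := by rw [Scheme.range_fromSpecStalk]; exact hy
  have hgi' : ∀ (t : T) (K : Type u) [Field K] [Algebra (IsLocalRing.ResidueField (T.presheaf.stalk t)) K],
      IsIrreducible ((FBase.bcπ (q.fiberToSpecResidueField t) K ≫ q.fiberι t).base ⁻¹'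
        connectedComponentIn (q.base ⁻¹' {t}) (s'.base t)) :=
    fun t K _ _ => isIrreducible_ascend f g hg hpb hs' hs'g rfl (hgi (b t)) K
  have hopen' : ∀ ξ ∈ connectedComponentIn (q.base ⁻¹' {c}) (s'.base c),
      connectedComponentIn (q.base ⁻¹' {c}) (s'.base c) ⊆ closure {ξ} → EGA43.IsUnivOpenAt q ξ := by
    intro ξ hξ hsub
    refine OpenAt.isUnivOpenAt_of_isPullback (hopen (pullback.fst f b ξ) ?_ ?_) hpb ξ rfl
    · have h := ((SecComp.mem_component_iff f g hg q (pullback.fst f b) b hpb s' hs' hs'g c).subset hξ).1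
      rw [Set.mem_preimage, hbc] at h
      exact h
    · intro w hw
      obtain ⟨v, hv, hvc⟩ := Scheme.exists_preimage_of_isPullback hpb w c
        (by rw [hbc]; exact (connectedComponentIn_subset (f ⁻¹' {y₀}) _ hw :))
      have hvC : v ∈ connectedComponentIn (q ⁻¹' {c}) (s' c) := by
        rw [SecComp.mem_component_iff f g hg q (pullback.fst f b) b hpb s' hs' hs'g c, hbc]
        exact ⟨by rw [Set.mem_preimage, hv]; exact hw, hvc⟩
      have h1 := (specializes_iff_mem_closure.mpr (hsub hvC)).map (pullback.fst f b).continuous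
      rw [hv] at h1
      exact h1.mem_closure
  have hred' : FBase.IsGeomReducedAt (q.fiberToSpecResidueField (q (s' c))) (q.asFiber (s' c)) :=
    isGeomReducedAt_baseChange hpb (s' c) (by rw [hps, hbc]; exact hred)
  have h := topDim_le_of_geomReduced q s' hs' hgi' (IsLocalRing.specializes_closedPoint η) hopen' hred'
  rw [topDim_component_eq q (hqs c) (isIrreducible_of_geometrically q s' c (hqs c) (hgi' c)),
    topDim_component_eq q (hqs η) (isIrreducible_of_geometrically q s' η (hqs η) (hgi' η)),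
    AlgSpD.fibreDimAt_of_isPullback f hpb, AlgSpD.fibreDimAt_of_isPullback f hpb, hps, hps, hbc, hη] at h
  exact h

/-- Universal openness at the generic point of the component gives big pieces over every generization. -/
theorem exists_gen_dim_of_univOpen (f : X ⟶ Y) [LocallyOfFiniteType f] {ξ : X}
    (hξ : EGA43.IsUnivOpenAt f ξ) (hmax : ∀ z, f z = f ξ → z ⤳ ξ → z = ξ) {y' : Y} (hy : y' ⤳ f ξ) :
    ∃ z, f z = y' ∧ FlatMor.fibreDimAt f ξ ≤ FlatMor.fibreDimAt f z := by
  obtain ⟨U, hU, hyU, -⟩ := exists_isAffineOpen_mem_and_subset (x := f ξ) (U := ⊤) trivial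
  obtain ⟨p₁, hp₁⟩ : f ξ ∈ Set.range hU.fromSpec := by rw [hU.range_fromSpec]; exact hyU
  obtain ⟨p₀, rfl⟩ : y' ∈ Set.range hU.fromSpec := by rw [hU.range_fromSpec]; exact hy.mem_open U.2 hyU
  have hpq : p₀.asIdeal ≤ p₁.asIdeal :=
    (PrimeSpectrum.le_iff_specializes p₀ p₁).mpr
      (hU.fromSpec.isOpenEmbedding.isInducing.specializes_iff.mp (hp₁.symm ▸ hy))
  let K := p₀.asIdeal.ResidueField
  let gK : Γ(Y, U) →+* K := algebraMap Γ(Y, U) K
  have hgk : RingHom.ker gK = p₀.asIdeal := Ideal.ker_algebraMap_residueField _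
  obtain ⟨V, g', hg', hker⟩ := EtaPtLib.exists_valuationSubring gK p₁ (le_of_eq_of_le hgk hpq)
  let T := Spec (CommRingCat.of V)
  let b : T ⟶ Y := Spec.map (CommRingCat.ofHom g') ≫ hU.fromSpec
  let c : ↥T := IsLocalRing.closedPoint V
  let η : ↥T := genericPoint T
  have hbc : b c = f ξ := by
    rw [← hp₁]
    show hU.fromSpec (PrimeSpectrum.comap g' (IsLocalRing.closedPoint V)) = _
    refine congrArg hU.fromSpec (PrimeSpectrum.ext ?_)
    show (IsLocalRing.maximalIdeal V).comap g' = p₁.asIdeal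
    rw [← hker, ← RingHom.comap_ker, IsLocalRing.ker_residue]
  have hbη : b η = hU.fromSpec p₀ := by
    show hU.fromSpec (PrimeSpectrum.comap g' (genericPoint T)) = _
    refine congrArg hU.fromSpec (PrimeSpectrum.ext ?_)
    have h0 : (genericPoint T : PrimeSpectrum V).asIdeal = ⊥ :=
      congrArg PrimeSpectrum.asIdeal (genericPoint_eq_bot_of_affine (CommRingCat.of V))
    show (genericPoint T : PrimeSpectrum V).asIdeal.comap g' = p₀.asIdeal
    rw [h0, ← RingHom.ker_eq_comap_bot]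
    refine Eq.trans ?_ hgk
    rw [← hg']
    exact (RingHom.ker_comp_of_injective g' Subtype.val_injective).symm
  let q := pullback.snd f b
  have hpb : IsPullback (pullback.fst f b) q f b := IsPullback.of_hasPullback f b
  haveI : LocallyOfFiniteType q := MorphismProperty.of_isPullback hpb inferInstance
  obtain ⟨ξ₁, hξ₁, hξ₁c⟩ := Scheme.exists_preimage_of_isPullback hpb ξ c hbc.symm
  -- a maximal point of the special fibre above `ξ`
  obtain ⟨ξ', hξ'ξ, hqξ', hξ'm, -, -, -, -, -, -, -, -⟩ := FibSemi.exists_max_fibre q ξ₁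
  have hξ'c : q ξ' = c := hqξ'.trans hξ₁c
  have hpξ' : pullback.fst f b ξ' = ξ := by
    refine hmax _ ?_ ?_
    · rw [← Scheme.Hom.comp_apply, hpb.w, Scheme.Hom.comp_apply, hξ'c, hbc]
    · rw [← hξ₁]
      exact hξ'ξ.map (pullback.fst f b).continuous
  have hopen := OpenAt.isUnivOpenAt_of_isPullback hξ hpb ξ' hpξ'
  obtain ⟨z, hzξ, hqz, hzm⟩ := GUOpen.exists_gen_of_isOpenAt q (GUOpen.isOpenAt_of_univ q hopen)
    (y' := η) (genericPoint_specializes _)
  refine ⟨pullback.fst f b z, ?_, ?_⟩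
  · rw [← Scheme.Hom.comp_apply, hpb.w, Scheme.Hom.comp_apply, hqz, hbη]
  rw [← hpξ', ← AlgSpD.fibreDimAt_of_isPullback f hpb, ← AlgSpD.fibreDimAt_of_isPullback f hpb,
    GUOpen.fibreDimAt_of_max q (fun w hw => hξ'm w (hw.trans hqξ')),
    GUOpen.fibreDimAt_of_max q (fun w hw => hzm w (hw.trans hqz))]
  exact krullDim_le_generic q hqz hzξ

end Groth.Agent.SecDim
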