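import Mathlib
import Groth.Agent.SecDim.BaseChange
import Groth.Agent.SecComp.Generize
import Groth.Agent.GUOpen.Crit
import Groth.Agent.GUOpen.Converse
import Groth.Agent.SchPoints.Basic

/-!
Invariance of the dimension of section components under generization.
-/

set_option autoImplicit false
set_option linter.style.haveILetI false
universe u
open CategoryTheory AlgebraicGeometry Limits Topology TopologicalSpace

noncomputable section

namespace Groth.Agent.SecDim

/-- A function invariant under specialization on a locally Noetherian scheme is constant near every point. -/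
theorem eventually_eq_of_specializes {Y : Scheme.{u}} [IsLocallyNoetherian Y] {α : Type*} (φ : Y → α) (y : Y)
    (h : ∀ a b : Y, a ⤳ b → φ a = φ b) : ∃ V ∈ nhds y, ∀ z ∈ V, φ z = φ y := by
  obtain ⟨W, hW, hWn⟩ := SchPoints.exists_noetherian_nhd y
  haveI := hWn
  let B : Set ↥W := ⋃₀ {C | C ∈ irreducibleComponents ↥W ∧ (⟨y, mem_of_mem_nhds hW⟩ : ↥W) ∉ C}
  have hB : IsClosed B := by
    show IsClosed (⋃₀ _)
    rw [Set.sUnion_eq_biUnion]
    exact (NoetherianSpace.finite_irreducibleComponents.subset fun C hC => hC.1).isClosed_biUnion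
      fun C hC => isClosed_of_mem_irreducibleComponents C hC.1
  have hyB : (⟨y, mem_of_mem_nhds hW⟩ : ↥W) ∉ B := fun ⟨C, hC, hyC⟩ => hC.2 hyC
  obtain ⟨O, hO, hOB⟩ := isOpen_induced_iff.mp hB.isOpen_compl
  refine ⟨W ∩ O, Filter.inter_mem hW (hO.mem_nhds ?_), fun z hz => ?_⟩
  · exact (hOB.ge hyB :)
  let z' : ↥W := ⟨z, hz.1⟩
  let C := irreducibleComponent z'
  have hyC : (⟨y, mem_of_mem_nhds hW⟩ : ↥W) ∈ C := by
    by_contra hne
    exact hOB.le hz.2 ⟨C, ⟨irreducibleComponent_mem_irreducibleComponents z', hne⟩, mem_irreducibleComponent⟩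
  have hC : IsIrreducible (Subtype.val '' C) := isIrreducible_irreducibleComponent.image _ continuous_subtype_val.continuousOn
  obtain ⟨η, hη⟩ := QuasiSober.sober hC.closure isClosed_closure
  exact ((h η z (hη.specializes (subset_closure ⟨z', mem_irreducibleComponent, rfl⟩))).symm.trans
    (h η y (hη.specializes (subset_closure ⟨_, hyC, rfl⟩))))

variable {X Y : Scheme.{u}} (f : X ⟶ Y) [LocallyOfFiniteType f] (g : Y ⟶ X)

/-- Dimensions of irreducible section components do not jump up under specialization. -/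
theorem topDim_le_of_specializes [IsLocallyNoetherian Y] (hg : g ≫ f = 𝟙 Y)
    (hirr : ∀ y : Y, IsIrreducible (connectedComponentIn (f ⁻¹' {y}) (g y))) {y' y : Y} (hy : y' ⤳ y) :
    topologicalKrullDim ↥(connectedComponentIn (f ⁻¹' {y'}) (g y')) ≤
      topologicalKrullDim ↥(connectedComponentIn (f ⁻¹' {y}) (g y)) := by
  have hgy : ∀ y, f (g y) = y := fun y => by rw [← Scheme.Hom.comp_apply, hg]; rfl
  rw [topDim_component_eq f (hgy y') (hirr y'), topDim_component_eq f (hgy y) (hirr y)]
  obtain ⟨n, m, -, -, hfd⟩ := FibSemi.fibreDimAt_eq_add f (g y)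
  have hopen := (FlatMisc.FibreDimScheme.isOpen_fibreDimAt_le (f := f) (n + m))
  rw [hfd]
  exact (hy.map g.continuous).mem_open hopen hfd.le

/-- Universal openness with geometrically reduced fibre components keeps the dimension under generization. -/
theorem topDim_eq_of_specializes [IsLocallyNoetherian Y] (hg : g ≫ f = 𝟙 Y)
    (hirr : ∀ y : Y, IsIrreducible (connectedComponentIn (f ⁻¹' {y}) (g y))) {y' y : Y} (hy : y' ⤳ y)
    (h : ∀ x ∈ connectedComponentIn (f ⁻¹' {y}) (g y), EGA43.IsUnivOpenAt f x ∧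
      FBase.IsGeomReducedAt (f.fiberToSpecResidueField (f x)) (f.asFiber x)) :
    topologicalKrullDim ↥(connectedComponentIn (f ⁻¹' {y'}) (g y')) =
      topologicalKrullDim ↥(connectedComponentIn (f ⁻¹' {y}) (g y)) := by
  refine le_antisymm (topDim_le_of_specializes f g hg hirr hy) ?_
  have hgy : ∀ y, f (g y) = y := fun y => by rw [← Scheme.Hom.comp_apply, hg]; rfl
  obtain ⟨c, hfc, hcg, hcm, hCeq, hfd⟩ := exists_generic f (hgy y) (hirr y)
  have hcC : c ∈ connectedComponentIn (f ⁻¹' {y}) (g y) := hCeq.ge ⟨subset_closure rfl, hfc⟩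
  have hcm' : ∀ z, f z = f c → z ⤳ c → z = c := fun z hz => hcm z (hz.trans hfc)
  obtain ⟨c', hc'c, hfc', hc'm, hd⟩ := GUOpen.exists_gen_dim_of_isOpenAt f
    (GUOpen.isOpenAt_of_univ f (h c hcC).1) hcm' (hy.trans (specializes_of_eq hfc.symm))
  have hc'C : c' ∈ connectedComponentIn (f ⁻¹' {y'}) (g y') := by
    have hmem := SecComp.Generize.mem_sectionComponents_of_specializes f g hg y h hcC hc'c
    rw [← hfc']
    exact hmem
  have hsub : closure {c'} ∩ f ⁻¹' {y'} ⊆ connectedComponentIn (f ⁻¹' {y'}) (g y') := fun w hw => by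
    rw [connectedComponentIn_eq hc'C]
    exact mem_component_of_specializes f hfc' hfc' hw.2 specializes_rfl (specializes_iff_mem_closure.mpr hw.1)
  rw [topDim_component_eq f (hgy y) (hirr y), hfd, ← GUOpen.fibreDimAt_of_max f hcm']
  refine hd.trans ((le_of_eq ?_).trans (Topology.IsInducing.topologicalKrullDim_le
    (Topology.IsEmbedding.inclusion hsub).isInducing))
  rw [← FibSemi.topDim_closure_inter_fibre_eq, hfc']

end Groth.Agent.SecDim
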