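import Mathlib
import Groth.Agent.SecDim.Const

/-!
Constancy near a point from a lower bound at the maximal generizations.
-/

set_option autoImplicit false
set_option linter.style.haveILetI false
universe u
open CategoryTheory AlgebraicGeometry Topology TopologicalSpace

noncomputable section

namespace Groth.Agent.SecDim

/-- Near a point `y` of a locally Noetherian scheme every point specializes from a maximal generization of `y`. -/
theorem exists_nhd_generic {Y : Scheme.{u}} [IsLocallyNoetherian Y] (y : Y) :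
    ∃ V ∈ nhds y, ∀ z ∈ V, ∃ η, η ⤳ y ∧ η ⤳ z ∧ closure {η} ∈ irreducibleComponents (Y : Type u) := by
  obtain ⟨W, hW, hWn⟩ := SchPoints.exists_noetherian_nhd y
  haveI := hWn
  let B : Set ↥W := ⋃₀ {C | C ∈ irreducibleComponents ↥W ∧ (⟨y, mem_of_mem_nhds hW⟩ : ↥W) ∉ C}
  have hB : IsClosed B := by
    show IsClosed (⋃₀ _)
    rw [Set.sUnion_eq_biUnion]
    exact (NoetherianSpace.finite_irreducibleComponents.subset fun C hC => hC.1).isClosed_biUnion
      fun C hC => isClosed_of_mem_irreducibleComponents C hC.1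
  have hyB : (⟨y, mem_of_mem_nhds hW⟩ : ↥W) ∉ B := fun ⟨C, hC, hyC⟩ => hC.2 hyC
  obtain ⟨O, hO, hOB⟩ := isOpen_induced_iff.mp hB.isOpen_compl
  refine ⟨W ∩ O, Filter.inter_mem hW (hO.mem_nhds ?_), fun z hz => ?_⟩
  · exact (hOB.ge hyB :)
  let z' : ↥W := ⟨z, hz.1⟩
  let C := irreducibleComponent z'
  have hyC : (⟨y, mem_of_mem_nhds hW⟩ : ↥W) ∈ C := by
    by_contra hne
    exact hOB.le hz.2 ⟨C, ⟨irreducibleComponent_mem_irreducibleComponents z', hne⟩, mem_irreducibleComponent⟩
  have hC : IsIrreducible (Subtype.val '' C) :=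
    isIrreducible_irreducibleComponent.image _ continuous_subtype_val.continuousOn
  obtain ⟨D, hD, hDm⟩ := exists_mem_irreducibleComponents_subset_of_isIrreducible _ hC
  obtain ⟨η, hη⟩ := QuasiSober.sober hD.1 (isClosed_of_mem_irreducibleComponents D hD)
  exact ⟨η, hη.specializes (hDm ⟨_, hyC, rfl⟩), hη.specializes (hDm ⟨z', mem_irreducibleComponent, rfl⟩),
    (show closure {η} = D from hη).symm ▸ hD⟩

/-- Constancy of the dimension of section components from lower bounds at maximal generizations. -/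
theorem eventually_const {X Y : Scheme.{u}} [IsLocallyNoetherian Y] (f : X ⟶ Y)
    [LocallyOfFiniteType f] (g : Y ⟶ X) (hg : g ≫ f = 𝟙 Y)
    (hirr : ∀ y : Y, IsIrreducible (connectedComponentIn (f ⁻¹' {y}) (g y))) (y₀ : Y)
    (h : ∀ η, η ⤳ y₀ → closure {η} ∈ irreducibleComponents (Y : Type u) →
      topologicalKrullDim ↥(connectedComponentIn (f ⁻¹' {y₀}) (g y₀)) ≤
        topologicalKrullDim ↥(connectedComponentIn (f ⁻¹' {η}) (g η))) :
    ∃ V ∈ nhds y₀, ∀ z ∈ V, topologicalKrullDim ↥(connectedComponentIn (f ⁻¹' {z}) (g z)) =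
      topologicalKrullDim ↥(connectedComponentIn (f ⁻¹' {y₀}) (g y₀)) := by
  have hgy : ∀ y, f (g y) = y := fun y => by rw [← Scheme.Hom.comp_apply, hg]; rfl
  obtain ⟨V, hV, hVη⟩ := exists_nhd_generic y₀
  obtain ⟨n, m, -, -, hfd⟩ := FibSemi.fibreDimAt_eq_add f (g y₀)
  have hopen := (FlatMisc.FibreDimScheme.isOpen_fibreDimAt_le (f := f) (n + m)).preimage g.continuous
  refine ⟨V ∩ g ⁻¹' {x : X | FlatMor.fibreDimAt f x ≤ ((n + m : ℕ) : WithBot ℕ∞)},
    Filter.inter_mem hV (hopen.mem_nhds hfd.le), fun z hz => le_antisymm ?_ ?_⟩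
  · rw [topDim_component_eq f (hgy z) (hirr z), topDim_component_eq f (hgy y₀) (hirr y₀), hfd]
    exact hz.2
  · obtain ⟨η, hηy, hηz, hηm⟩ := hVη z hz.1
    exact (h η hηy hηm).trans (topDim_le_of_specializes f g hg hirr hηz)

end Groth.Agent.SecDim
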