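import Mathlib
import Groth.Prelude.Def_EGA43
import Groth.Prelude.Def_MoreMor
import Groth.Agent.SecDim.Basic
import Groth.Agent.GUOpen.Fibre

set_option autoImplicit false
set_option linter.style.haveILetI false
open CategoryTheory AlgebraicGeometry
universe u v w
open EGA43

/-!
EGA IV 15.6.3 without Noetherian hypotheses.
-/

namespace Groth.Agent.SecDim

/-- Components of the section along a generization: the dimension can only grow, and with equality the closure of the generic component contains the special one. -/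
theorem component_subset_closure {X Y : Scheme.{u}} (f : X ⟶ Y)
    [LocallyOfFiniteType f] (g : Y ⟶ X) (hg : g ≫ f = 𝟙 Y) (y y' : Y) (hy : y' ⤳ y)
    (hZ : ∃ Z : Set X, Z ⊆ f.base ⁻¹' {y'} ∧ IsIrreducible Z ∧
      (∀ Z' : Set X, IsIrreducible Z' → Z' ⊆ f.base ⁻¹' {y'} → Z ⊆ Z' → Z' = Z) ∧ g.base y' ∈ Z ∧
      topologicalKrullDim ↥Z = topologicalKrullDim ↥(connectedComponentIn (f.base ⁻¹' {y'}) (g.base y'))) :
    topologicalKrullDim ↥(connectedComponentIn (f.base ⁻¹' {y'}) (g.base y')) ≤ topologicalKrullDim ↥(connectedComponentIn (f.base ⁻¹' {y}) (g.base y)) ∧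
      (IsIrreducible (connectedComponentIn (f.base ⁻¹' {y}) (g.base y)) → topologicalKrullDim ↥(connectedComponentIn (f.base ⁻¹' {y}) (g.base y)) = topologicalKrullDim ↥(connectedComponentIn (f.base ⁻¹' {y'}) (g.base y')) →
        connectedComponentIn (f.base ⁻¹' {y}) (g.base y) ⊆ closure (connectedComponentIn (f.base ⁻¹' {y'}) (g.base y'))) := by
  classical
  obtain ⟨Z, hZy, hZirr, hZmax, hgZ, hZdim⟩ := hZ
  have hgy : ∀ y, f (g y) = y := fun y => by rw [← Scheme.Hom.comp_apply, hg]; rfl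
  haveI : QuasiSober ↥(f ⁻¹' {y'}) := (f.fiberHomeo y').symm.isClosedEmbedding.quasiSober
  -- the generic point of `Z`
  obtain ⟨ζ, hζy, hζ⟩ : ∃ ζ, f ζ = y' ∧ closure {ζ} ∩ f ⁻¹' {y'} = Z := by
    have hT : closure Z ∩ f ⁻¹' {y'} = Z := hZmax _ (by
      refine ⟨hZirr.nonempty.mono fun w hw => ⟨subset_closure hw, hZy hw⟩, fun u v hu hv ⟨p, hp, hpu⟩ ⟨q, hq, hqv⟩ => ?_⟩
      obtain ⟨r, hr, hr'⟩ := hZirr.2 u v hu hv (by
          obtain ⟨r, hr1, hr2⟩ := mem_closure_iff.mp hp.1 u hu hpu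
          exact ⟨r, hr2, hr1⟩) (by
          obtain ⟨r, hr1, hr2⟩ := mem_closure_iff.mp hq.1 v hv hqv
          exact ⟨r, hr2, hr1⟩)
      exact ⟨r, ⟨subset_closure hr, hZy hr⟩, hr'⟩) Set.inter_subset_right fun w hw => ⟨subset_closure hw, hZy hw⟩
    let Zf : Set (f ⁻¹' {y'}) := Subtype.val ⁻¹' Z
    have hZfc : IsClosed Zf := by
      have : Zf = Subtype.val ⁻¹' closure Z := by
        ext w
        exact ⟨fun hw => subset_closure hw, fun hw => hT.subset ⟨hw, w.2⟩⟩
      rw [this]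
      exact isClosed_closure.preimage continuous_subtype_val
    have hZfi : IsIrreducible Zf := by
      refine ⟨⟨⟨g y', hgy y'⟩, hgZ⟩, fun u v hu hv ⟨p, hp, hpu⟩ ⟨q, hq, hqv⟩ => ?_⟩
      obtain ⟨U, hU, rfl⟩ := isOpen_induced_iff.mp hu
      obtain ⟨V, hV, rfl⟩ := isOpen_induced_iff.mp hv
      obtain ⟨r, hr, hrU, hrV⟩ := hZirr.2 U V hU hV ⟨p.1, hp, hpu⟩ ⟨q.1, hq, hqv⟩
      exact ⟨⟨r, hZy hr⟩, hr, hrU, hrV⟩
    obtain ⟨η, hη⟩ := QuasiSober.sober hZfi hZfc
    refine ⟨η.1, η.2, Set.Subset.antisymm (fun w hw => ?_) fun w hw => ⟨?_, hZy hw⟩⟩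
    · exact hT.subset ⟨closure_mono (Set.singleton_subset_iff.mpr (show η.1 ∈ Z from hη.mem)) hw.1, hw.2⟩
    · exact specializes_iff_mem_closure.mp
        ((hη.specializes (show (⟨w, hZy hw⟩ : f ⁻¹' {y'}) ∈ Zf from hw)).map continuous_subtype_val)
  have hζg : ζ ⤳ g y := (specializes_iff_mem_closure.mpr (hζ.ge hgZ).1).trans (hy.map g.continuous)
  have hC'd : topologicalKrullDim ↥(connectedComponentIn (f.base ⁻¹' {y'}) (g.base y')) =
      topologicalKrullDim ↥(closure {ζ} ∩ f ⁻¹' {f ζ}) := by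
    rw [← hZdim, hζy, hζ]
  obtain ⟨c, hcg, hfc, hcm, n, m, e, -, -, hfd, hc, -⟩ := FibSemi.exists_max_fibre f (g y)
  rw [hgy] at hfc hcm
  have hcC : closure {c} ∩ f ⁻¹' {y} ⊆ connectedComponentIn (f.base ⁻¹' {y}) (g.base y) :=
    fun w hw => SecDim.mem_component_of_specializes f hfc (hgy y) hw.2 hcg (specializes_iff_mem_closure.mpr hw.1)
  have hup : (e : WithBot ℕ∞) ≤ topologicalKrullDim ↥(connectedComponentIn (f.base ⁻¹' {y}) (g.base y)) := by
    refine le_trans (le_of_eq ?_)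
      (Topology.IsInducing.topologicalKrullDim_le (Topology.IsEmbedding.inclusion hcC).isInducing)
    rw [← hc, ← FibSemi.topDim_closure_inter_fibre_eq, hfc]
  have hlow : topologicalKrullDim ↥(connectedComponentIn (f.base ⁻¹' {y'}) (g.base y')) ≤ (e : WithBot ℕ∞) := by
    rw [hC'd, ← hfd]
    exact FibSemi.topDim_closure_le_fibreDimAt f hζg
  refine ⟨hlow.trans hup, fun hirr heq => ?_⟩
  obtain ⟨c₂, hfc₂, hc₂g, hc₂m, hCeq, hfd₂⟩ := SecDim.exists_generic f (hgy y) hirr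
  have hcc : c = c₂ := (hcm c₂ hfc₂ (specializes_iff_mem_closure.mpr
    (hCeq.subset (hcC ⟨subset_closure rfl, hfc⟩)).1)).symm
  subst hcc
  suffices h : ζ ⤳ c by
    have hC' : ζ ∈ connectedComponentIn (f.base ⁻¹' {y'}) (g.base y') :=
      SecDim.mem_component_of_specializes f hζy (hgy y') hζy
        (specializes_iff_mem_closure.mpr (hζ.ge hgZ).1) specializes_rfl
    intro w hw
    have h1 : c ⤳ w := specializes_iff_mem_closure.mpr (hCeq.subset hw).1
    exact closure_mono (Set.singleton_subset_iff.mpr hC') (h.trans h1).mem_closure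
  have hd : topologicalKrullDim ↥(closure {ζ} ∩ f ⁻¹' {f ζ}) = (e : WithBot ℕ∞) := by
    refine le_antisymm (hC'd ▸ hlow) ?_
    rw [← hC'd, ← heq]
    exact hup
  obtain ⟨V, hgV, hV⟩ := GUOpen.exists_nhd_max f (g y) y
  have h1 := FibSemi.topDim_closure_inter_fibre_le f hζg V hgV
  rw [hd, hgy y, GUOpen.topDim_piece f _ isClosed_closure V y] at h1
  obtain ⟨l, hl⟩ := Order.le_krullDim_iff.mp h1
  have hcw : c ⤳ (l.last).1 := by
    obtain ⟨c', hc'w, hc'g, hfc', hc'm⟩ := hV _ (l.last).2.2.2 (l.last).2.1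
    have h2 : c ⤳ c' := specializes_iff_mem_closure.mpr
      (hCeq.subset (SecDim.mem_component_of_specializes f hfc' (hgy y) hfc' hc'g specializes_rfl)).1
    exact h2.trans hc'w
  by_cases hlc : (l.last).1 = c
  · rw [← hlc]
    exact specializes_iff_mem_closure.mpr (l.last).2.2.1
  exfalso
  let top : {z : X | f z = f c ∧ c ⤳ z} := ⟨c, rfl, specializes_rfl⟩
  let l₀ : LTSeries {z : X | f z = f c ∧ c ⤳ z} := LTSeries.mk l.length
    (fun i => ⟨(l i).1, (l i).2.1.trans hfc.symm,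
      hcw.trans (show (l.last).1 ⤳ (l i).1 from l.monotone (Fin.le_last i))⟩) fun i j hij => l.strictMono hij
  let l₁ : LTSeries {z : X | f z = f c ∧ c ⤳ z} := l₀.snoc top
    ⟨hcw, fun h' => hlc ((show (l.last).1 ⤳ c from h').antisymm hcw).eq⟩
  have h3 := (Order.le_krullDim_iff.mpr ⟨l₁, rfl⟩).trans_eq hc
  have h4 : l₁.length ≤ e := ENat.natCast_le_natCast.mp (WithBot.coe_le_coe.mp h3)
  have h5 : l₁.length = e + 1 := by rw [← hl]; rfl
  omega

end Groth.Agent.SecDim
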